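import Groth.Agent.H15Magnet.Grad.Smooth
import Groth.Agent.H7Flat.PushoutRing
import Mathlib.Algebra.MonoidAlgebra.MapDomain

/-!
# The ring on which a lift may be averaged
-/

set_option autoImplicit false
set_option linter.unusedSectionVars false
set_option linter.style.haveILetI false
universe u

open AddMonoidAlgebra

noncomputable section

namespace Groth.Agent.H15Magnet.Grad

variable {M : Type} [AddCommGroup M] {B B' : Type u} [CommRing B] [CommRing B']

/-- `B + K[M]`. -/
def avgRing (M : Type) [AddCommGroup M] (K : Ideal B) : Subring (AddMonoidAlgebra B M) where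
  carrier := {v | ∀ m, m ≠ 0 → v.coeff m ∈ K}
  one_mem' m hm := by
    classical
    rw [one_def, coeff_single, Finsupp.single_apply, if_neg fun h => hm h.symm]
    exact K.zero_mem
  zero_mem' m _ := K.zero_mem
  add_mem' {v w} hv hw m hm := by
    rw [coeff_add, Finsupp.add_apply]
    exact K.add_mem (hv m hm) (hw m hm)
  neg_mem' {v} hv m hm := by
    rw [AddMonoidAlgebra.coeff_neg, Finsupp.neg_apply]
    exact K.neg_mem (hv m hm)
  mul_mem' {v w} hv hw m hm := coeff_mul_mem K v w m fun i j e => by
    by_cases hi : i = 0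
    · exact K.mul_mem_left _ (hw j fun hj => hm (by rw [← e, hi, hj, add_zero]))
    · exact K.mul_mem_right _ (hv i hi)

variable (K : Ideal B)

/-- Constants. -/
def avgIncl : B →+* avgRing M K :=
  (singleZeroRingHom : B →+* AddMonoidAlgebra B M).codRestrict _ fun b m hm => by
    classical
    show (single (0 : M) b).coeff m ∈ K
    rw [coeff_single, Finsupp.single_apply, if_neg fun h => hm h.symm]
    exact K.zero_mem

theorem coeff_mul_zero_of_sq (hK : K ^ 2 = ⊥) (v w : avgRing M K) :
    (v.1 * w.1).coeff 0 = v.1.coeff 0 * w.1.coeff 0 := by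
  classical
  have h2 : ∀ x ∈ K, ∀ y ∈ K, x * y = 0 := fun x hx y hy => by
    have := Ideal.mul_mem_mul hx hy
    rwa [← pow_two, hK, Ideal.mem_bot] at this
  have hv : v.1 = single 0 (v.1.coeff 0) + (v.1 - single 0 (v.1.coeff 0)) := (add_sub_cancel _ _).symm
  have hrest : (v.1 - single 0 (v.1.coeff 0)).coeff 0 = 0 := by
    simp
  have hrw : ((v.1 - single 0 (v.1.coeff 0)) * w.1).coeff 0 = 0 :=
    coeff_mul_eq_zero _ _ 0 fun i j e => by
      by_cases hi : i = 0
      · rw [hi, hrest, zero_mul]
      · have hj : j ≠ 0 := fun hj => hi (by rwa [hj, add_zero] at e)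
        refine h2 _ ?_ _ (w.2 j hj)
        rw [AddMonoidAlgebra.coeff_sub, Finsupp.sub_apply, coeff_single, Finsupp.single_apply,
          if_neg fun h => hi h.symm, sub_zero]
        exact v.2 i hi
  conv_lhs => rw [hv, add_mul, coeff_add, Finsupp.add_apply, hrw, add_zero, coeff_single_mul_apply]
  simp

/-- The average. -/
def avg0 (hK : K ^ 2 = ⊥) : avgRing M K →+* B where
  toFun v := v.1.coeff 0
  map_one' := by
    classical
    show (1 : AddMonoidAlgebra B M).coeff 0 = 1
    simp [one_def]
  map_mul' v w := coeff_mul_zero_of_sq K hK v w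
  map_zero' := rfl
  map_add' v w := by
    show (v.1 + w.1).coeff 0 = _
    rw [coeff_add, Finsupp.add_apply]

theorem avg0_incl (hK : K ^ 2 = ⊥) (b : B) : avg0 (M := M) K hK (avgIncl K b) = b := by
  classical
  show (single (0 : M) b).coeff 0 = b
  simp

/-- The projection to `B ⧸ K`. -/
def avgPr (hK : K ^ 2 = ⊥) : avgRing M K →+* B ⧸ K := (Ideal.Quotient.mk K).comp (avg0 K hK)

theorem avg_sq (hK : K ^ 2 = ⊥) :
    Groth.Agent.H7Flat.RingSq (avgRing M K).subtype (avgPr K hK) (mapRingHom M (Ideal.Quotient.mk K))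
      (singleZeroRingHom : B ⧸ K →+* AddMonoidAlgebra (B ⧸ K) M) := by
  classical
  refine ⟨fun z => AddMonoidAlgebra.ext (Finsupp.ext fun m => ?_), ?_, fun z z' h _ => Subtype.ext h,
    fun v c h => ?_⟩
  · show (mapRingHom M (Ideal.Quotient.mk K) z.1).coeff m = (single (0 : M) (Ideal.Quotient.mk K (z.1.coeff 0))).coeff m
    rw [coeff_mapRingHom, coeff_single, Finsupp.single_apply]
    split_ifs with e
    · rw [← e]
    · exact Ideal.Quotient.eq_zero_iff_mem.2 (z.2 m fun h => e h.symm)
  · intro w
    induction w using AddMonoidAlgebra.induction_linear with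
    | zero => exact ⟨0, map_zero _⟩
    | add x y hx hy =>
      obtain ⟨x, rfl⟩ := hx
      obtain ⟨y, rfl⟩ := hy
      exact ⟨x + y, map_add _ _ _⟩
    | single m b =>
      obtain ⟨b, rfl⟩ := Ideal.Quotient.mk_surjective b
      exact ⟨single m b, mapRingHom_single _ _ _⟩
  · have hc : ∀ m, Ideal.Quotient.mk K (v.coeff m) = (single (0 : M) c).coeff m := fun m => by
      rw [← coeff_mapRingHom, h]
      rfl
    refine ⟨⟨v, fun m hm => ?_⟩, rfl, ?_⟩
    · rw [← Ideal.Quotient.eq_zero_iff_mem, hc, coeff_single, Finsupp.single_apply, if_neg fun e => hm e.symm]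
    · show Ideal.Quotient.mk K (v.coeff 0) = c
      rw [hc]
      simp

/-- Functoriality. -/
def avgMap {K' : Ideal B'} (s : B →+* B') (hs : K ≤ K'.comap s) : avgRing M K →+* avgRing M K' :=
  ((mapRingHom M s).comp (avgRing M K).subtype).codRestrict _ fun v m hm => by
    show (mapRingHom M s v.1).coeff m ∈ K'
    rw [coeff_mapRingHom]
    exact hs (v.2 m hm)

theorem avg0_map {K' : Ideal B'} (hK : K ^ 2 = ⊥) (hK' : K' ^ 2 = ⊥) (s : B →+* B') (hs : K ≤ K'.comap s) :
    (avg0 (M := M) K' hK').comp (avgMap K s hs) = s.comp (avg0 K hK) := by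
  refine RingHom.ext fun v => ?_
  show (mapRingHom M s v.1).coeff 0 = _
  rw [coeff_mapRingHom]
  rfl

end Groth.Agent.H15Magnet.Grad
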