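import Mathlib.Algebra.MonoidAlgebra.Basic
import Mathlib.Algebra.MonoidAlgebra.MapDomain
import Mathlib.RingTheory.Ideal.Quotient.Operations

/-!
# Gradings of rings as coactions
-/

set_option autoImplicit false
set_option linter.unusedSectionVars false
universe u

open AddMonoidAlgebra

namespace Groth.Agent.H15Magnet.Grad

variable {M : Type} [AddCommGroup M] {A B : Type u} [CommRing A] [CommRing B]

/-- A grading of `A` by `M`, as a coaction of `D(M)`. -/
structure IsGrading (δ : A →+* AddMonoidAlgebra A M) : Prop where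
  sum_eq : ∀ a, (δ a).coeff.sum (fun _ x => x) = a
  idem : ∀ a m, δ ((δ a).coeff m) = single m ((δ a).coeff m)

/-- Homogeneous elements. -/
def Homog (δ : A →+* AddMonoidAlgebra A M) (m : M) (a : A) : Prop := δ a = single m a

variable {δ : A →+* AddMonoidAlgebra A M}

theorem homog_coeff (h : IsGrading δ) (a : A) (m : M) : Homog δ m ((δ a).coeff m) := h.idem a m

theorem Homog.mul {k n : M} {a b : A} (ha : Homog δ k a) (hb : Homog δ n b) : Homog δ (k + n) (a * b) := by
  rw [Homog, map_mul, ha, hb, single_mul_single]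

theorem homog_one : Homog δ 0 1 := map_one δ

theorem homog_zero (m : M) : Homog δ m 0 := by rw [Homog, map_zero, single_zero]

theorem coeff_homog {m : M} {a : A} (ha : Homog δ m a) (l : M) [Decidable (m = l)] :
    (δ a).coeff l = if m = l then a else 0 := by
  rw [ha, coeff_single, Finsupp.single_apply]

theorem coeff_homog_mul {k : M} {a : A} (ha : Homog δ k a) (b : A) (l : M) :
    (δ (a * b)).coeff (k + l) = a * (δ b).coeff l := by
  rw [map_mul, ha, coeff_single_mul_apply, neg_add_cancel_left]

/-- Prove things on homogeneous elements. -/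
theorem IsGrading.induction (h : IsGrading δ) {P : A → Prop} (zero : P 0)
    (add : ∀ a b, P a → P b → P (a + b)) (homog : ∀ m a, Homog δ m a → P a) (a : A) : P a := by
  rw [← h.sum_eq a]
  exact Finset.sum_induction _ P add zero fun m _ => homog m _ (homog_coeff h a m)

variable (δ) {G : Type*} [AddCommMonoid G]

/-- Define an additive map degree by degree. -/
noncomputable def dsum (f : M → A →+ G) : A →+ G where
  toFun a := (δ a).coeff.sum fun m x => f m x
  map_zero' := by simp
  map_add' a b := by
    rw [map_add, coeff_add]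
    exact Finsupp.sum_add_index' (fun m => map_zero (f m)) fun m => map_add (f m)

theorem dsum_apply (f : M → A →+ G) (a : A) : dsum δ f a = (δ a).coeff.sum fun m x => f m x := rfl

variable {δ}

theorem dsum_homog (f : M → A →+ G) {m : M} {a : A} (ha : Homog δ m a) : dsum δ f a = f m a := by
  rw [dsum_apply, ha, coeff_single, Finsupp.sum_single_index]
  exact map_zero _

/-- Multiplicativity may be checked on homogeneous elements. -/
theorem IsGrading.map_mul_of_homog {C : Type*} [Semiring C] (h : IsGrading δ) (L : A →+ C)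
    (hL : ∀ k n a b, Homog δ k a → Homog δ n b → L (a * b) = L a * L b) (a b : A) :
    L (a * b) = L a * L b := by
  induction a using h.induction with
  | zero => simp
  | add x y hx hy => rw [add_mul, map_add, hx, hy, map_add, add_mul]
  | homog k x hx =>
    induction b using h.induction with
    | zero => simp
    | add y z hy hz => rw [mul_add, map_add, hy, hz, map_add, mul_add]
    | homog n y hy => exact hL k n x y hx hy

/-- A ring homomorphism defined degree by degree. -/
noncomputable def IsGrading.homOfHomog {C : Type*} [Semiring C] (h : IsGrading δ) (L : A →+ C) (h1 : L 1 = 1)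
    (hL : ∀ k n a b, Homog δ k a → Homog δ n b → L (a * b) = L a * L b) : A →+* C :=
  { L with
    map_one' := h1
    map_mul' := h.map_mul_of_homog L hL }

theorem IsGrading.hom_ext {C : Type*} [Semiring C] (h : IsGrading δ) {f g : A →+* C}
    (hfg : ∀ m a, Homog δ m a → f a = g a) : f = g := by
  refine RingHom.ext fun a => ?_
  induction a using h.induction with
  | zero => simp
  | add x y hx hy => rw [map_add, map_add, hx, hy]
  | homog m x hx => exact hfg m x hx

/-! ### Homogeneous ideals -/

/-- The ideal generated by the homogeneous elements of degree outside `N`. -/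
def outside (δ : A →+* AddMonoidAlgebra A M) (N : AddSubmonoid M) : Ideal A :=
  Ideal.span {a | ∃ m, m ∉ N ∧ Homog δ m a}

theorem mem_outside {N : AddSubmonoid M} {m : M} {a : A} (hm : m ∉ N) (ha : Homog δ m a) :
    a ∈ outside δ N := Ideal.subset_span ⟨m, hm, ha⟩

theorem outside_le_iff {N : AddSubmonoid M} {I : Ideal A} :
    outside δ N ≤ I ↔ ∀ m a, m ∉ N → Homog δ m a → a ∈ I := by
  rw [outside, Ideal.span_le]
  exact ⟨fun h m a hm ha => h ⟨m, hm, ha⟩, fun h a ⟨m, hm, ha⟩ => h m a hm ha⟩

theorem outside_anti {N L : AddSubmonoid M} (h : L ≤ N) : outside δ N ≤ outside δ L :=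
  outside_le_iff.2 fun _ _ hm ha => mem_outside (fun hl => hm (h hl)) ha

theorem outside_le_ker (N : AddSubmonoid M) :
    outside δ N ≤ RingHom.ker ((mapRingHom M (Ideal.Quotient.mk (outside δ N))).comp δ) := by
  rw [outside_le_iff]
  intro m a hm ha
  rw [RingHom.mem_ker, RingHom.comp_apply, ha, mapRingHom_single,
    Ideal.Quotient.eq_zero_iff_mem.2 (mem_outside hm ha), single_zero]

/-- The grading of the quotient. -/
noncomputable def quotδ (δ : A →+* AddMonoidAlgebra A M) (N : AddSubmonoid M) :
    A ⧸ outside δ N →+* AddMonoidAlgebra (A ⧸ outside δ N) M :=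
  Ideal.Quotient.lift _ ((mapRingHom M (Ideal.Quotient.mk (outside δ N))).comp δ) (outside_le_ker N)

theorem quotδ_mk (N : AddSubmonoid M) (a : A) :
    quotδ δ N (Ideal.Quotient.mk _ a) = mapRingHom M (Ideal.Quotient.mk (outside δ N)) (δ a) := rfl

theorem Homog.mk {N : AddSubmonoid M} {m : M} {a : A} (ha : Homog δ m a) :
    Homog (quotδ δ N) m (Ideal.Quotient.mk _ a) := by
  rw [Homog, quotδ_mk, ha, mapRingHom_single]

theorem IsGrading.quot (h : IsGrading δ) (N : AddSubmonoid M) : IsGrading (quotδ δ N) := by
  refine ⟨fun b => ?_, fun b m => ?_⟩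
  · obtain ⟨a, rfl⟩ := Ideal.Quotient.mk_surjective b
    induction a using h.induction with
    | zero => simp
    | add x y hx hy =>
      rw [map_add, map_add, coeff_add, Finsupp.sum_add_index' (fun _ => rfl) fun _ _ _ => rfl, hx, hy]
    | homog k x hx => rw [hx.mk, coeff_single, Finsupp.sum_single_index]; rfl
  · obtain ⟨a, rfl⟩ := Ideal.Quotient.mk_surjective b
    rw [quotδ_mk, coeff_mapRingHom]
    exact (homog_coeff h a m).mk

/-- Homogeneous elements of the quotient lift to homogeneous elements. -/
theorem exists_homog_lift (h : IsGrading δ) {N : AddSubmonoid M} {m : M} {b : A ⧸ outside δ N}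
    (hb : Homog (quotδ δ N) m b) : ∃ a, Homog δ m a ∧ Ideal.Quotient.mk _ a = b := by
  classical
  obtain ⟨a, rfl⟩ := Ideal.Quotient.mk_surjective b
  refine ⟨(δ a).coeff m, homog_coeff h a m, ?_⟩
  have := coeff_homog hb m
  rwa [if_pos rfl, quotδ_mk, coeff_mapRingHom] at this

theorem homog_quot_eq_zero (h : IsGrading δ) {N : AddSubmonoid M} {m : M} (hm : m ∉ N)
    {b : A ⧸ outside δ N} (hb : Homog (quotδ δ N) m b) : b = 0 := by
  obtain ⟨a, ha, rfl⟩ := exists_homog_lift h hb
  exact Ideal.Quotient.eq_zero_iff_mem.2 (mem_outside hm ha)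

/-! ### Faces -/

section Face

variable (N Z : AddSubmonoid M) (h : IsGrading δ) (hZN : Z ≤ N)
  (hface : ∀ x ∈ N, ∀ y ∈ N, x + y ∈ Z → x ∈ Z ∧ y ∈ Z)

open Classical in
/-- The section of the face projection, on `A`. -/
noncomputable def secAdd (δ : A →+* AddMonoidAlgebra A M) (N Z : AddSubmonoid M) : A →+ A ⧸ outside δ N :=
  dsum δ fun m => if m ∈ Z then (Ideal.Quotient.mk (outside δ N)).toAddMonoidHom else 0

theorem secAdd_homog {m : M} {a : A} (ha : Homog δ m a) [Decidable (m ∈ Z)] :
    secAdd δ N Z a = if m ∈ Z then Ideal.Quotient.mk _ a else 0 := by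
  rw [secAdd, dsum_homog _ ha]
  split_ifs <;> simp_all

include hZN hface in
/-- The section of the face projection. -/
theorem exists_sec (h : IsGrading δ) : ∃ ι : A ⧸ outside δ Z →+* A ⧸ outside δ N,
    (∀ a, ι (Ideal.Quotient.mk _ a) = secAdd δ N Z a) ∧
    (Ideal.Quotient.factor (outside_anti hZN)).comp ι = RingHom.id _ := by
  classical
  let r : A →+* A ⧸ outside δ N := h.homOfHomog (secAdd δ N Z)
    (by rw [secAdd_homog N Z homog_one, if_pos Z.zero_mem, map_one]) (fun k n a b ha hb => by
      rw [secAdd_homog N Z (ha.mul hb), secAdd_homog N Z ha, secAdd_homog N Z hb]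
      by_cases hk : k ∈ N
      · by_cases hn : n ∈ N
        · by_cases hkn : k + n ∈ Z
          · obtain ⟨h1, h2⟩ := hface k hk n hn hkn
            rw [if_pos hkn, if_pos h1, if_pos h2, map_mul]
          · rw [if_neg hkn]
            split_ifs with h1 h2 <;> first | simp | exact absurd (Z.add_mem h1 h2) hkn
        · have hn' : n ∉ Z := fun h => hn (hZN h)
          rw [if_neg hn', mul_zero, map_mul, Ideal.Quotient.eq_zero_iff_mem.2 (mem_outside hn hb), mul_zero,
            ite_self]
      · have hk' : k ∉ Z := fun h => hk (hZN h)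
        rw [if_neg hk', zero_mul, map_mul, Ideal.Quotient.eq_zero_iff_mem.2 (mem_outside hk ha), zero_mul,
          ite_self])
  have hr : outside δ Z ≤ RingHom.ker r := outside_le_iff.2 fun m a hm ha => by
    rw [RingHom.mem_ker]
    exact (secAdd_homog N Z ha).trans (if_neg hm)
  refine ⟨Ideal.Quotient.lift _ r hr, fun a => rfl, Ideal.Quotient.ringHom_ext (h.hom_ext fun m a ha => ?_)⟩
  show Ideal.Quotient.factor (outside_anti hZN) (r a) = Ideal.Quotient.mk _ a
  rw [show r a = _ from secAdd_homog N Z ha]
  split_ifs with hm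
  · rfl
  · rw [map_zero, eq_comm, Ideal.Quotient.eq_zero_iff_mem]
    exact mem_outside hm ha

end Face

end Groth.Agent.H15Magnet.Grad
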