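import Groth.Agent.H15Magnet.Grad.Smooth
import Groth.Agent.H15Magnet.Degree
import Mathlib.LinearAlgebra.SymmetricAlgebra.Basic
import Mathlib.Algebra.TrivSqZeroExt.Basic
import Mathlib.RingTheory.FiniteType

/-!
# A positively graded smooth algebra over its degree zero part is a symmetric algebra
-/

set_option autoImplicit false
set_option linter.unusedSectionVars false
set_option linter.style.haveILetI false
set_option backward.isDefEq.respectTransparency false
universe u

open AddMonoidAlgebra Magnet

namespace Groth.Agent.H15Magnet.Grad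

variable {M : Type} [AddCommGroup M] {R B : Type u} [CommRing R] [CommRing B] [Algebra R B]
  {δ : B →+* AddMonoidAlgebra B M}

/-- A linear form positive away from a face, on the monoid generated by finitely many degrees. -/
theorem exists_degree' [AddGroup.FG M] {N Z : AddSubmonoid M} (hface : IsFace N Z) (s : Finset M)
    (hs : ∀ x ∈ s, x ∈ N ∧ x ∉ Z) : ∃ ψ : M →+ ℤ, (∀ z ∈ Z, ψ z = 0) ∧ ∀ x ∈ s, 0 < ψ x := by
  classical
  let H := AddSubgroup.closure (Z : Set M)
  have hH : H.toAddSubmonoid.FG :=
    (AddSubgroup.fg_iff_addSubmonoid_fg H).1 (by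
      have : IsNoetherian ℤ M := by
        have := Module.Finite.iff_addGroup_fg.2 (inferInstance : AddGroup.FG M)
        infer_instance
      exact (Submodule.fg_iff_addSubgroup_fg H.toIntSubmodule).1 (IsNoetherian.noetherian _))
  have hdiff : ∀ y ∈ H, ∃ z₁ ∈ Z, ∃ z₂ ∈ Z, y + z₂ = z₁ := by
    intro y hy
    induction hy using AddSubgroup.closure_induction with
    | mem y hy => exact ⟨y, hy, 0, Z.zero_mem, add_zero y⟩
    | zero => exact ⟨0, Z.zero_mem, 0, Z.zero_mem, add_zero 0⟩
    | add y z _ _ h1 h2 =>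
      obtain ⟨a, ha, b, hb, e1⟩ := h1
      obtain ⟨c, hc, d, hd, e2⟩ := h2
      exact ⟨a + c, Z.add_mem ha hc, b + d, Z.add_mem hb hd, by rw [← e1, ← e2]; abel⟩
    | neg y _ h1 =>
      obtain ⟨a, ha, b, hb, e1⟩ := h1
      exact ⟨b, hb, a, ha, by rw [← e1]; abel⟩
  have hNH : ∀ n ∈ N, n ∈ H → n ∈ Z := by
    intro n hn hnH
    obtain ⟨z₁, h₁, z₂, h₂, e⟩ := hdiff n hnH
    exact (hface.mem_of_add_mem n hn z₂ (hface.le h₂) (e ▸ h₁)).1
  let N₁ := AddSubmonoid.closure (s : Set M) ⊔ H.toAddSubmonoid
  have hN₁ : N₁.FG := AddSubmonoid.FG.sup ⟨s, rfl⟩ hH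
  have hcl : AddSubmonoid.closure (s : Set M) ≤ N := AddSubmonoid.closure_le.2 fun x hx => (hs x hx).1
  have hF : IsFace N₁ H.toAddSubmonoid := by
    refine ⟨le_sup_right, fun x hx y hy hxy => ?_⟩
    obtain ⟨a, ha, h₁, hh₁, rfl⟩ := AddSubmonoid.mem_sup.1 hx
    obtain ⟨b, hb, h₂, hh₂, rfl⟩ := AddSubmonoid.mem_sup.1 hy
    have hab : a + b ∈ H := by
      have := H.sub_mem hxy (H.add_mem hh₁ hh₂)
      rwa [show a + h₁ + (b + h₂) - (h₁ + h₂) = a + b by abel] at this
    obtain ⟨h1, h2⟩ := hface.mem_of_add_mem a (hcl ha) b (hcl hb) (hNH _ (N.add_mem (hcl ha) (hcl hb)) hab)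
    exact ⟨H.add_mem (AddSubgroup.subset_closure h1) hh₁, H.add_mem (AddSubgroup.subset_closure h2) hh₂⟩
  obtain ⟨ψ, hψ⟩ := Groth.Agent.H15Magnet.exists_degree hN₁ hF
  refine ⟨ψ, fun z hz => ?_, fun x hx => ?_⟩
  · exact ((hψ z ((le_sup_right : H.toAddSubmonoid ≤ N₁) (AddSubgroup.subset_closure hz))).2.2
      (AddSubgroup.subset_closure hz))
  · have hx₁ : x ∈ N₁ := (le_sup_left : _ ≤ N₁) (AddSubmonoid.subset_closure hx)
    refine lt_of_le_of_ne (hψ x hx₁).1 fun h0 => (hs x hx).2 ?_
    exact hNH x (hs x hx).1 ((hψ x hx₁).2.1 h0.symm)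

theorem iInf_aug_pow {P : Type u} [AddCommGroup P] [Module R P] {x : SymmetricAlgebra R P}
    (hx : ∀ n, x ∈ (RingHom.ker (SymmetricAlgebra.algebraMapInv (R := R) (M := P))) ^ n) : x = 0 := by
  let χ : (SymmetricAlgebra R P) →ₐ[R] Polynomial (SymmetricAlgebra R P) :=
    SymmetricAlgebra.lift (((Polynomial.monomial (R := (SymmetricAlgebra R P)) 1).restrictScalars R).comp (SymmetricAlgebra.ι R P))
  have h1 : ((Polynomial.aeval (1 : (SymmetricAlgebra R P))).restrictScalars R).comp χ = AlgHom.id R (SymmetricAlgebra R P) := by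
    ext p
    simp [χ]
  have h0 : ((Polynomial.aeval (0 : (SymmetricAlgebra R P))).restrictScalars R).comp χ =
      (Algebra.ofId R (SymmetricAlgebra R P)).comp SymmetricAlgebra.algebraMapInv := by
    ext p
    simp [χ, SymmetricAlgebra.algebraMapInv_ι]
  have hJ : (RingHom.ker (SymmetricAlgebra.algebraMapInv (R := R) (M := P))).map χ ≤
      Ideal.span {(Polynomial.X : Polynomial (SymmetricAlgebra R P))} := by
    rw [Ideal.map_le_iff_le_comap]
    intro y hy
    rw [Ideal.mem_comap, Ideal.mem_span_singleton, Polynomial.X_dvd_iff, Polynomial.coeff_zero_eq_aeval_zero]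
    have := DFunLike.congr_fun h0 y
    simp only [AlgHom.comp_apply, AlgHom.restrictScalars_apply] at this
    rw [this, show SymmetricAlgebra.algebraMapInv y = 0 from hy, map_zero]
  have hχ : χ x = 0 := by
    ext d
    have h2 := Ideal.mem_map_of_mem χ (hx (d + 1))
    rw [Ideal.map_pow] at h2
    have h3 := Ideal.pow_right_mono hJ (d + 1) h2
    rw [Ideal.span_singleton_pow, Ideal.mem_span_singleton, Polynomial.X_pow_dvd_iff] at h3
    rw [h3 d d.lt_succ_self, Polynomial.coeff_zero]
  have := DFunLike.congr_fun h1 x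
  simp only [AlgHom.comp_apply, hχ, map_zero, AlgHom.id_apply] at this
  exact this.symm

/-- A formally smooth algebra of finite type graded in `N`, whose part in a face `Z` is the base, is
a symmetric algebra of a finite projective module. -/
theorem exists_symEquiv [AddGroup.FG M] [Algebra.FormallySmooth R B] [Algebra.FiniteType R B]
    (h : IsGrading δ) {N Z : AddSubmonoid M} (hface : IsFace N Z)
    (hN : ∀ m b, m ∉ N → Homog δ m b → b = 0) (ε : B →ₐ[R] R)
    (hout : ∀ m b, m ∉ Z → Homog δ m b → ε b = 0)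
    (hin : ∀ m b, m ∈ Z → Homog δ m b → algebraMap R B (ε b) = b) :
    ∃ (P : Type u) (_ : AddCommGroup P) (_ : Module R P), Module.Finite R P ∧ Module.Projective R P ∧
      Nonempty (SymmetricAlgebra R P ≃ₐ[R] B) := by
  classical
  let cf : M → B →+ B := fun m => AddMonoidHom.mk' (fun b => (δ b).coeff m) fun a b => by
    rw [map_add, coeff_add, Finsupp.add_apply]
  let a : R →+* B := algebraMap R B
  have hZ : ∀ b m, (m ∈ Z → cf m (a (ε b)) = cf m b) ∧ (m ∉ Z → cf m (a (ε b)) = 0) := by
    intro b m
    induction b using h.induction with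
    | zero => simp
    | add x y hx hy =>
      simp only [map_add]
      exact ⟨fun hm => by rw [hx.1 hm, hy.1 hm], fun hm => by rw [hx.2 hm, hy.2 hm, add_zero]⟩
    | homog k x hx =>
      by_cases hk : k ∈ Z
      · rw [show a (ε x) = x from hin k x hk hx]
        refine ⟨fun _ => rfl, fun hm => ?_⟩
        show (δ x).coeff m = 0
        rw [coeff_homog hx, if_neg fun e : k = m => hm (e ▸ hk)]
      · rw [hout k x hk hx, map_zero, map_zero]
        refine ⟨fun hm => ?_, fun _ => rfl⟩
        show 0 = (δ x).coeff m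
        rw [coeff_homog hx, if_neg fun e : k = m => hk (e ▸ hm)]
  have hεa : ∀ c, ε (a c) = c := fun c => ε.commutes c
  have hmap : ∀ c m, m ∉ Z → cf m (a c) = 0 := fun c m hm => by
    have := (hZ (a c) m).2 hm
    rwa [hεa] at this
  let J : Ideal B := RingHom.ker ε
  have hJ : ∀ b ∈ J, ∀ m, cf m b ∈ J ∧ (m ∈ Z → cf m b = 0) := by
    intro b hb m
    have h0 : m ∈ Z → cf m b = 0 := fun hm => by
      rw [← (hZ b m).1 hm, show ε b = 0 from hb, map_zero, map_zero]
    refine ⟨?_, h0⟩
    by_cases hm : m ∈ Z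
    · rw [h0 hm]
      exact J.zero_mem
    · exact hout m _ hm (homog_coeff h b m)
  -- the module
  let W : Submodule R B := LinearMap.range (Algebra.linearMap R B) ⊔ (J ^ 2).restrictScalars R
  let P := B ⧸ W
  let q : B →ₗ[R] P := W.mkQ
  have hqa : ∀ c, q (a c) = 0 := fun c =>
    (Submodule.Quotient.mk_eq_zero W).2 (Submodule.mem_sup_left ⟨c, rfl⟩)
  have hqJ : ∀ b ∈ J ^ 2, q b = 0 := fun b hb =>
    (Submodule.Quotient.mk_eq_zero W).2 (Submodule.mem_sup_right hb)
  have hsub : ∀ b, b - a (ε b) ∈ J := fun b => by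
    show ε (b - a (ε b)) = 0
    rw [map_sub, hεa, sub_self]
  have hqmul : ∀ x y, q (x * y) = ε x • q y + ε y • q x := by
    intro x y
    have e : x * y = (x - a (ε x)) * (y - a (ε y)) + (ε x • y + ε y • x) - a (ε x * ε y) := by
      simp only [Algebra.smul_def, map_mul, a]
      ring
    conv_lhs => rw [e]
    rw [map_sub, map_add, hqa, hqJ _ (pow_two J ▸ Ideal.mul_mem_mul (hsub x) (hsub y)), zero_add, sub_zero,
      map_add, LinearMap.map_smul, LinearMap.map_smul]
  have hq0 : ∀ b, q b = 0 → ∀ m, q (cf m b) = 0 := by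
    intro b hb m
    obtain ⟨r, ⟨c, rfl⟩, j, hj, rfl⟩ := Submodule.mem_sup.1 ((Submodule.Quotient.mk_eq_zero W).1 hb)
    rw [map_add, map_add]
    have h1 : q (cf m (Algebra.linearMap R B c)) = 0 := by
      by_cases hm : m ∈ Z
      · show q (cf m (a c)) = 0
        rw [← hin m (cf m (a c)) hm (homog_coeff h _ m)]
        exact hqa _
      · show q (cf m (a c)) = 0
        rw [hmap c m hm, map_zero]
    rw [h1, zero_add]
    refine hqJ _ ?_
    have hj' : j ∈ J * J := pow_two J ▸ (show j ∈ J ^ 2 from hj)
    refine Submodule.mul_induction_on hj' (fun x hx y hy => ?_) fun x y hx hy => ?_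
    · show (δ (x * y)).coeff m ∈ J ^ 2
      rw [map_mul, pow_two]
      exact coeff_mul_mem (J * J) _ _ m fun i j _ => Ideal.mul_mem_mul (hJ x hx i).1 (hJ y hy j).1
    · rw [map_add]
      exact add_mem hx hy
  -- generators
  obtain ⟨s, hs⟩ := (inferInstance : Algebra.FiniteType R B).out
  let T : Finset (M × B) := s.biUnion fun b =>
    ((δ b).coeff.support.filter (· ∉ Z)).image fun m => (m, cf m b)
  have hT : ∀ t ∈ T, Homog δ t.1 t.2 ∧ t.1 ∈ N ∧ t.1 ∉ Z := by
    intro t ht
    obtain ⟨b, -, hb⟩ := Finset.mem_biUnion.1 ht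
    obtain ⟨m, hm, rfl⟩ := Finset.mem_image.1 hb
    obtain ⟨hm1, hm2⟩ := Finset.mem_filter.1 hm
    refine ⟨homog_coeff h b m, ?_, hm2⟩
    by_contra hmN
    exact Finsupp.mem_support_iff.1 hm1 (hN m _ hmN (homog_coeff h b m))
  have hTtop : Algebra.adjoin R (Prod.snd '' (T : Set (M × B))) = ⊤ := by
    refine top_le_iff.1 (hs ▸ Algebra.adjoin_le fun b hb => ?_)
    show b ∈ Algebra.adjoin R (Prod.snd '' (T : Set (M × B)))
    rw [← h.sum_eq b]
    refine Subalgebra.sum_mem _ fun m hm => ?_
    by_cases hmZ : m ∈ Z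
    · rw [← hin m _ hmZ (homog_coeff h b m)]
      exact Subalgebra.algebraMap_mem _ _
    · exact Algebra.subset_adjoin ⟨(m, cf m b), Finset.mem_biUnion.2 ⟨b, hb,
        Finset.mem_image.2 ⟨m, Finset.mem_filter.2 ⟨hm, hmZ⟩, rfl⟩⟩, rfl⟩
  have hqspan : ∀ b, q b ∈ Submodule.span R (q '' (Prod.snd '' (T : Set (M × B)))) := by
    intro b
    have hb : b ∈ Algebra.adjoin R (Prod.snd '' (T : Set (M × B))) := hTtop ▸ Algebra.mem_top
    induction hb using Algebra.adjoin_induction with
    | mem x hx => exact Submodule.subset_span ⟨x, hx, rfl⟩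
    | algebraMap c => rw [show q (algebraMap R B c) = 0 from hqa c]; exact zero_mem _
    | add x y _ _ hx hy => rw [map_add]; exact add_mem hx hy
    | mul x y _ _ hx hy =>
      rw [hqmul]
      exact add_mem (Submodule.smul_mem _ _ hy) (Submodule.smul_mem _ _ hx)
  have hfin : Module.Finite R P := by
    refine Module.Finite.of_fg_top ?_
    refine ⟨(T.image Prod.snd).image q, ?_⟩
    rw [Finset.coe_image, Finset.coe_image, eq_top_iff]
    intro p _
    obtain ⟨b, rfl⟩ := W.mkQ_surjective p
    exact hqspan b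
  -- projectivity
  obtain ⟨n, π, hπ⟩ := Module.Finite.exists_fin' R P
  have hproj : Module.Projective R P := by
    let I : Ideal (TrivSqZeroExt R (Fin n → R)) :=
      { carrier := {x | x.fst = 0 ∧ π x.snd = 0}
        zero_mem' := ⟨rfl, map_zero π⟩
        add_mem' := fun {x y} hx hy => ⟨by rw [TrivSqZeroExt.fst_add, hx.1, hy.1, add_zero],
          by rw [TrivSqZeroExt.snd_add, map_add, hx.2, hy.2, add_zero]⟩
        smul_mem' := fun c x hx => ⟨by rw [smul_eq_mul, TrivSqZeroExt.fst_mul, hx.1, mul_zero], by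
          rw [smul_eq_mul, TrivSqZeroExt.snd_mul, hx.1, MulOpposite.op_zero, zero_smul, add_zero,
            LinearMap.map_smul, hx.2, smul_zero]⟩ }
    have hI : IsNilpotent I := ⟨2, by
      show I ^ (2 : ℕ) = ⊥
      rw [Submodule.pow_succ, Submodule.pow_one]
      refine le_bot_iff.1 (Ideal.mul_le.2 fun x hx y hy => Ideal.mem_bot.2 ?_)
      refine TrivSqZeroExt.ext ?_ ?_
      · rw [TrivSqZeroExt.fst_mul, hx.1, zero_mul]; rfl
      · rw [TrivSqZeroExt.snd_mul, hx.1, hy.1, MulOpposite.op_zero, zero_smul, zero_smul, add_zero]; rfl⟩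
    have hC : ∀ x y : (TrivSqZeroExt R (Fin n → R)), x.fst = y.fst → π x.snd = π y.snd → Ideal.Quotient.mk I x = Ideal.Quotient.mk I y :=
      fun x y h1 h2 => Ideal.Quotient.eq.2
        ⟨by rw [TrivSqZeroExt.fst_sub, h1, sub_self], by rw [TrivSqZeroExt.snd_sub, map_sub, h2, sub_self]⟩
    let pre : P → Fin n → R := Function.surjInv hπ
    have hpre : ∀ p, π (pre p) = p := Function.surjInv_eq hπ
    let v : B → (TrivSqZeroExt R (Fin n → R)) := fun b => TrivSqZeroExt.inl (ε b) + TrivSqZeroExt.inr (pre (q b))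
    have hv1 : ∀ b, (v b).fst = ε b := fun b => by simp [v]
    have hv2 : ∀ b, π (v b).snd = q b := fun b => by simp [v, hpre]
    let f : B →ₐ[R] (TrivSqZeroExt R (Fin n → R)) ⧸ I :=
      { toFun := fun b => Ideal.Quotient.mk I (v b)
        map_one' := by
          rw [← map_one (Ideal.Quotient.mk I)]
          refine hC _ _ (by simp [hv1]) ?_
          rw [hv2, TrivSqZeroExt.snd_one, map_zero, ← map_one a]
          exact hqa 1
        map_mul' := fun x y => by
          rw [← map_mul]
          refine hC _ _ (by simp [hv1]) ?_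
          rw [hv2, TrivSqZeroExt.snd_mul, op_smul_eq_smul, map_add, LinearMap.map_smul, LinearMap.map_smul,
            hv1, hv1, hv2, hv2, hqmul]
        map_zero' := by
          rw [← map_zero (Ideal.Quotient.mk I)]
          exact hC _ _ (by simp [hv1]) (by rw [hv2, TrivSqZeroExt.snd_zero, map_zero, map_zero])
        map_add' := fun x y => by
          rw [← map_add]
          exact hC _ _ (by simp [hv1]) (by rw [hv2, TrivSqZeroExt.snd_add, map_add, map_add, hv2, hv2])
        commutes' := fun c => hC _ (algebraMap R (TrivSqZeroExt R (Fin n → R)) c) (by simp [hv1, TrivSqZeroExt.algebraMap_eq_inl]) (by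
          rw [hv2, TrivSqZeroExt.algebraMap_eq_inl, TrivSqZeroExt.snd_inl, map_zero]
          exact hqa c) }
    obtain ⟨l, hl⟩ := Algebra.FormallySmooth.exists_lift (R := R) I hI f
    have hl' : ∀ b, (l b).fst = ε b ∧ π (l b).snd = q b := fun b => by
      have e : Ideal.Quotient.mk I (l b) = Ideal.Quotient.mk I (v b) := DFunLike.congr_fun hl b
      obtain ⟨e1, e2⟩ := Ideal.Quotient.eq.1 e
      rw [TrivSqZeroExt.fst_sub, sub_eq_zero] at e1
      rw [TrivSqZeroExt.snd_sub, map_sub, sub_eq_zero] at e2
      exact ⟨e1.trans (hv1 b), e2.trans (hv2 b)⟩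
    let σ : B →ₗ[R] (Fin n → R) := (TrivSqZeroExt.sndHom R (Fin n → R)).comp l.toLinearMap
    have hσ : W ≤ LinearMap.ker σ := by
      refine sup_le ?_ ?_
      · rintro _ ⟨c, rfl⟩
        show (l (algebraMap R B c)).snd = 0
        rw [l.commutes, TrivSqZeroExt.algebraMap_eq_inl, TrivSqZeroExt.snd_inl]
      · intro b hb
        have hb' : b ∈ J * J := pow_two J ▸ (show b ∈ J ^ 2 from hb)
        refine Submodule.mul_induction_on hb' (fun x hx y hy => ?_) (fun x y => add_mem)
        show (l (x * y)).snd = 0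
        rw [map_mul, TrivSqZeroExt.snd_mul, (hl' x).1, (hl' y).1, show ε x = 0 from hx, show ε y = 0 from hy,
          MulOpposite.op_zero, zero_smul, zero_smul, add_zero]
    refine Module.Projective.of_split (W.liftQ σ hσ) π (Submodule.linearMap_qext _ (LinearMap.ext fun b => ?_))
    exact (hl' b).2
  -- a graded section
  obtain ⟨s', hs'⟩ := Module.projective_lifting_property q LinearMap.id W.mkQ_surjective
  let sJ : P →ₗ[R] B := s' - ((Algebra.linearMap R B).comp ε.toLinearMap).comp s'
  have hsJ : ∀ p, sJ p ∈ J := fun p => hsub (s' p)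
  have hsq : ∀ p, q (sJ p) = p := fun p => by
    show q (s' p - a (ε (s' p))) = p
    rw [map_sub, hqa, sub_zero]
    exact DFunLike.congr_fun hs' p
  let T0 : B →+ B := dsum δ fun m => (cf m).comp (sJ.comp q).toAddMonoidHom
  have hT0 : ∀ {m x}, Homog δ m x → T0 x = cf m (sJ (q x)) := fun {m x} hx => dsum_homog _ hx
  have hTa : ∀ c b, T0 (a c * b) = a c * T0 b := by
    intro c b
    rw [← hεa c]
    generalize a c = d
    induction d using h.induction with
    | zero => simp
    | add x y hx hy => rw [map_add, map_add, add_mul, map_add, hx, hy, add_mul]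
    | homog k y hy =>
      by_cases hk : k ∈ Z
      · rw [show a (ε y) = y from hin k y hk hy]
        induction b using h.induction with
        | zero => simp
        | add x z hx hz => rw [mul_add, map_add, hx, hz, map_add, mul_add]
        | homog m x hx =>
          rw [hT0 (hy.mul hx), hT0 hx]
          have e : sJ (q (y * x)) = y * sJ (q x) := by
            have : y * x = ε y • x := by rw [Algebra.smul_def]; rw [hin k y hk hy]
            rw [this, LinearMap.map_smul, LinearMap.map_smul, Algebra.smul_def, hin k y hk hy]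
          rw [e]
          exact coeff_homog_mul hy _ _
      · rw [hout k y hk hy, map_zero, zero_mul, zero_mul, map_zero]
  let TL : B →ₗ[R] B :=
    { toFun := T0
      map_add' := map_add T0
      map_smul' := fun c b => by
        show T0 (c • b) = c • T0 b
        rw [Algebra.smul_def, Algebra.smul_def]
        exact hTa c b }
  have hTq : ∀ b, q b = 0 → TL b = 0 := fun b hb => by
    show (δ b).coeff.sum (fun m x => cf m (sJ (q x))) = 0
    refine Finset.sum_eq_zero fun m _ => ?_
    show cf m (sJ (q (cf m b))) = 0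
    rw [hq0 b hb m, map_zero, map_zero]
  have hTeq : ∀ b b', q b = q b' → TL b = TL b' := fun b b' e => by
    rw [← sub_eq_zero, ← map_sub]
    exact hTq _ (by rw [map_sub, e, sub_self])
  have hqT : ∀ b, q (TL b) = q b := by
    intro b
    induction b using h.induction with
    | zero => simp
    | add x y hx hy => rw [map_add, map_add, map_add, hx, hy]
    | homog m x hx =>
      show q (T0 x) = q x
      rw [hT0 hx]
      have h1 : q (cf m (sJ (q x) - x)) = 0 := hq0 _ (by rw [map_sub, hsq, sub_self]) m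
      rw [map_sub, map_sub, sub_eq_zero] at h1
      rw [h1]
      show q ((δ x).coeff m) = q x
      rw [coeff_homog hx, if_pos rfl]
  let s0 : P →ₗ[R] B := TL.comp sJ
  have hs0q : ∀ p, q (s0 p) = p := fun p => (hqT _).trans (hsq p)
  have hs0J : ∀ p, ε (s0 p) = 0 := fun p => by
    show ε (T0 (sJ p)) = 0
    show ε ((δ (sJ p)).coeff.sum fun m x => cf m (sJ (q x))) = 0
    rw [Finsupp.sum, map_sum]
    exact Finset.sum_eq_zero fun m _ => (hJ _ (hsJ _) m).1
  have hs0deg : ∀ {m x}, Homog δ m x → Homog δ m (s0 (q x)) := fun {m x} hx => by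
    rw [show s0 (q x) = cf m (sJ (q x)) from (hTeq _ _ (hsq (q x))).trans (hT0 hx)]
    exact homog_coeff h _ m
  -- surjectivity
  let Φ : SymmetricAlgebra R P →ₐ[R] B := SymmetricAlgebra.lift s0
  obtain ⟨ψ, hψZ, hψT⟩ := exists_degree' hface (T.image Prod.fst) fun x hx => by
    obtain ⟨t, ht, rfl⟩ := Finset.mem_image.1 hx
    exact (hT t ht).2
  have hV : ∀ b m, cf m b ≠ 0 → 0 ≤ ψ m ∧ (ψ m = 0 → m ∈ Z) := by
    intro b
    have hb : b ∈ Algebra.adjoin R (Prod.snd '' (T : Set (M × B))) := hTtop ▸ Algebra.mem_top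
    induction hb using Algebra.adjoin_induction with
    | mem x hx =>
      obtain ⟨t, ht, rfl⟩ := hx
      intro m hm
      have hm' : m = t.1 := by
        by_contra hne
        exact hm ((coeff_homog (hT t ht).1 m).trans (if_neg (Ne.symm hne)))
      subst hm'
      have := hψT _ (Finset.mem_image_of_mem _ ht)
      exact ⟨this.le, fun h0 => absurd h0 this.ne'⟩
    | algebraMap c =>
      intro m hm
      by_cases hmZ : m ∈ Z
      · exact ⟨(hψZ m hmZ).ge, fun _ => hmZ⟩
      · exact absurd (hmap c m hmZ) hm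
    | add x y _ _ hx hy =>
      intro m hm
      by_cases h1 : cf m x = 0
      · exact hy m fun h2 => hm (by rw [map_add, h1, h2, add_zero])
      · exact hx m h1
    | mul x y _ _ hx hy =>
      intro m hm
      by_contra hcon
      refine hm (?_ : (δ (x * y)).coeff m = 0)
      rw [map_mul]
      refine coeff_mul_eq_zero _ _ m fun i j e => ?_
      by_contra hne
      obtain ⟨hi1, hi2⟩ := hx i fun h0 => hne (by rw [show (δ x).coeff i = 0 from h0, zero_mul])
      obtain ⟨hj1, hj2⟩ := hy j fun h0 => hne (by rw [show (δ y).coeff j = 0 from h0, mul_zero])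
      refine hcon ⟨by rw [← e, map_add]; exact add_nonneg hi1 hj1, fun h0 => ?_⟩
      rw [← e, map_add, add_eq_zero_iff_of_nonneg hi1 hj1] at h0
      exact e ▸ Z.add_mem (hi2 h0.1) (hj2 h0.2)
  have hgen : ∀ (k : ℕ), ∀ t ∈ T, (ψ t.1).toNat ≤ k → t.2 ∈ Φ.range := by
    intro k
    induction k with
    | zero =>
      intro t ht hk
      have := hψT _ (Finset.mem_image_of_mem Prod.fst ht)
      omega
    | succ k ih =>
      intro t ht hk
      have hlow : ∀ b m, ψ m ≤ (k : ℤ) → cf m b ∈ Φ.range := by
        intro b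
        have hb : b ∈ Algebra.adjoin R (Prod.snd '' (T : Set (M × B))) := hTtop ▸ Algebra.mem_top
        induction hb using Algebra.adjoin_induction with
        | mem x hx =>
          obtain ⟨t', ht', rfl⟩ := hx
          intro m hm
          show (δ t'.2).coeff m ∈ Φ.range
          rw [coeff_homog (hT t' ht').1]
          split_ifs with e
          · exact ih t' ht' (by subst e; omega)
          · exact zero_mem _
        | algebraMap c =>
          intro m _
          by_cases hmZ : m ∈ Z
          · rw [← hin m (cf m (algebraMap R B c)) hmZ (homog_coeff h _ m)]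
            exact Subalgebra.algebraMap_mem _ _
          · rw [show cf m (algebraMap R B c) = 0 from hmap c m hmZ]
            exact zero_mem _
        | add x y _ _ hx hy =>
          intro m hm
          rw [map_add]
          exact add_mem (hx m hm) (hy m hm)
        | mul x y _ _ hx hy =>
          intro m hm
          show (δ (x * y)).coeff m ∈ Φ.range
          rw [map_mul]
          refine coeff_mul_mem Φ.range _ _ m fun i j e => ?_
          by_cases h1 : cf i x = 0
          · rw [show (δ x).coeff i = 0 from h1, zero_mul]; exact zero_mem _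
          by_cases h2 : cf j y = 0
          · rw [show (δ y).coeff j = 0 from h2, mul_zero]; exact zero_mem _
          have hi := (hV x i h1).1
          have hj := (hV y j h2).1
          rw [← e, map_add] at hm
          exact mul_mem (hx i (by omega)) (hy j (by omega))
      obtain ⟨htd, htN, htZ⟩ := hT t ht
      let d := t.2 - s0 (q t.2)
      have hd : d ∈ J ^ 2 := by
        have h0 : q d = 0 := by rw [map_sub, hs0q, sub_self]
        obtain ⟨r, ⟨c, rfl⟩, j, hj, e⟩ := Submodule.mem_sup.1 ((Submodule.Quotient.mk_eq_zero W).1 h0)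
        have hεd : ε d = 0 := by rw [map_sub, hout _ _ htZ htd, hs0J, sub_zero]
        have hεj : ε j = 0 := Ideal.pow_le_self two_ne_zero hj
        have hc : c = 0 := by
          have := congrArg ε e
          rw [map_add, hεd, hεj, add_zero] at this
          rwa [Algebra.linearMap_apply, hεa] at this
        rw [← e, hc, map_zero, zero_add]
        exact hj
      have hdd : cf t.1 d = d := by
        have hh : Homog δ t.1 d := by rw [Homog, map_sub, htd, hs0deg htd, single_sub]
        show (δ d).coeff t.1 = d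
        rw [coeff_homog hh, if_pos rfl]
      have hdR : d ∈ Φ.range := by
        rw [← hdd]
        have hd' : d ∈ J * J := pow_two J ▸ hd
        generalize d = e at hd'
        refine Submodule.mul_induction_on hd' (fun x hx y hy => ?_) fun x y hx hy => ?_
        · show (δ (x * y)).coeff t.1 ∈ Φ.range
          rw [map_mul]
          refine coeff_mul_mem Φ.range _ _ _ fun i j e => ?_
          by_cases h1 : cf i x = 0
          · rw [show (δ x).coeff i = 0 from h1, zero_mul]; exact zero_mem _
          by_cases h2 : cf j y = 0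
          · rw [show (δ y).coeff j = 0 from h2, mul_zero]; exact zero_mem _
          obtain ⟨hi, hi'⟩ := hV x i h1
          obtain ⟨hj, hj'⟩ := hV y j h2
          have hi0 : ψ i ≠ 0 := fun h0 => h1 ((hJ x hx i).2 (hi' h0))
          have hj0 : ψ j ≠ 0 := fun h0 => h2 ((hJ y hy j).2 (hj' h0))
          have hsum : ψ t.1 = ψ i + ψ j := by rw [← map_add, e]
          exact mul_mem (hlow x i (by omega)) (hlow y j (by omega))
        · rw [map_add]
          exact add_mem hx hy
      rw [show t.2 = d + s0 (q t.2) from (sub_add_cancel _ _).symm]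
      exact add_mem hdR ⟨SymmetricAlgebra.ι R P (q t.2), SymmetricAlgebra.lift_ι_apply _ _⟩
  have hΦsurj : Function.Surjective Φ := by
    rw [← AlgHom.range_eq_top, eq_top_iff, ← hTtop]
    refine Algebra.adjoin_le ?_
    rintro _ ⟨t, ht, rfl⟩
    exact hgen _ t ht le_rfl
  -- injectivity
  let A0 : Ideal (SymmetricAlgebra R P) := RingHom.ker (SymmetricAlgebra.algebraMapInv (R := R) (M := P))
  let K : Ideal (SymmetricAlgebra R P) := RingHom.ker Φ
  have haug : ∀ x, ε (Φ x) = SymmetricAlgebra.algebraMapInv x := by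
    intro x
    refine DFunLike.congr_fun (?_ : ε.comp Φ = SymmetricAlgebra.algebraMapInv) x
    refine SymmetricAlgebra.algHom_ext (LinearMap.ext fun p => ?_)
    show ε (SymmetricAlgebra.lift s0 (SymmetricAlgebra.ι R P p)) = _
    rw [SymmetricAlgebra.lift_ι_apply, hs0J]
    exact (SymmetricAlgebra.algebraMapInv_ι _).symm
  have hKA : K ≤ A0 := fun x hx => by
    show SymmetricAlgebra.algebraMapInv x = 0
    rw [← haug, show Φ x = 0 from hx, map_zero]
  have hA : ∀ x : (SymmetricAlgebra R P), x - algebraMap R (SymmetricAlgebra R P) (SymmetricAlgebra.algebraMapInv x) - SymmetricAlgebra.ι R P (q (Φ x))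
      ∈ A0 ^ 2 := by
    intro x
    induction x using SymmetricAlgebra.induction with
    | algebraMap r =>
      rw [AlgHom.commutes, show q (Φ (algebraMap R (SymmetricAlgebra R P) r)) = 0 by rw [AlgHom.commutes]; exact hqa r, map_zero,
        sub_zero, Algebra.algebraMap_self_apply, sub_self]
      exact zero_mem _
    | ι p =>
      rw [SymmetricAlgebra.algebraMapInv_ι, show Φ (SymmetricAlgebra.ι R P p) = s0 p from
        SymmetricAlgebra.lift_ι_apply _ _, hs0q, map_zero, sub_zero, sub_self]
      exact zero_mem _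
    | mul x y hx hy =>
      have hx0 : x - algebraMap R (SymmetricAlgebra R P) (SymmetricAlgebra.algebraMapInv x) ∈ A0 := by
        show SymmetricAlgebra.algebraMapInv _ = 0
        rw [map_sub, AlgHom.commutes, Algebra.algebraMap_self_apply, sub_self]
      have hy0 : y - algebraMap R (SymmetricAlgebra R P) (SymmetricAlgebra.algebraMapInv y) ∈ A0 := by
        show SymmetricAlgebra.algebraMapInv _ = 0
        rw [map_sub, AlgHom.commutes, Algebra.algebraMap_self_apply, sub_self]
      have h2 := pow_two A0 ▸ Ideal.mul_mem_mul hx0 hy0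
      rw [map_mul, map_mul, map_mul, hqmul, haug, haug, map_add, LinearMap.map_smul, LinearMap.map_smul,
        Algebra.smul_def, Algebra.smul_def]
      have := add_mem (add_mem h2 (Ideal.mul_mem_left _ (algebraMap R (SymmetricAlgebra R P) (SymmetricAlgebra.algebraMapInv x)) hy))
        (Ideal.mul_mem_left _ (algebraMap R (SymmetricAlgebra R P) (SymmetricAlgebra.algebraMapInv y)) hx)
      convert this using 1
      ring
    | add x y hx hy =>
      have := add_mem hx hy
      rw [map_add, map_add, map_add, map_add, map_add]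
      convert this using 1
      abel
  have hK2 : K ^ 2 ≤ RingHom.ker (Φ : SymmetricAlgebra R P →+* B) := fun x hx => Ideal.pow_le_self two_ne_zero hx
  let g : (SymmetricAlgebra R P) ⧸ K ^ 2 →ₐ[R] B := Ideal.Quotient.liftₐ (K ^ 2) Φ fun x hx => hK2 hx
  have hgker : RingHom.ker (g : (SymmetricAlgebra R P) ⧸ K ^ 2 →+* B) = K.map (Ideal.Quotient.mk (K ^ 2)) :=
    Ideal.ker_quotient_lift (Φ : SymmetricAlgebra R P →+* B) hK2
  have hgnil : IsNilpotent (RingHom.ker (g : (SymmetricAlgebra R P) ⧸ K ^ 2 →+* B)) :=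
    ⟨2, by rw [hgker, ← Ideal.map_pow, Ideal.map_quotient_self]; rfl⟩
  have hgsurj : Function.Surjective g := fun b => by
    obtain ⟨x, rfl⟩ := hΦsurj b
    exact ⟨Ideal.Quotient.mk _ x, rfl⟩
  let l : B →ₐ[R] (SymmetricAlgebra R P) ⧸ K ^ 2 := Algebra.FormallySmooth.liftOfSurjective (AlgHom.id R B) g hgsurj hgnil
  have hgl : ∀ b, g (l b) = b := Algebra.FormallySmooth.liftOfSurjective_apply _ _ _ _
  let e : (SymmetricAlgebra R P) →ₐ[R] (SymmetricAlgebra R P) ⧸ K ^ 2 := l.comp Φ
  have he : ∀ u, e u - Ideal.Quotient.mk _ u ∈ K.map (Ideal.Quotient.mk (K ^ 2)) := fun u => by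
    rw [← hgker]
    show g (e u - Ideal.Quotient.mk _ u) = 0
    rw [map_sub, AlgHom.comp_apply, hgl]
    exact sub_self _
  have hKK : K ≤ K * A0 := by
    intro k hk
    have hk2 : k ∈ A0 * A0 := by
      have := hA k
      rw [show SymmetricAlgebra.algebraMapInv k = 0 from hKA hk, show Φ k = 0 from hk, map_zero, map_zero,
        map_zero, sub_zero, sub_zero, pow_two] at this
      exact this
    have hstep : e k - Ideal.Quotient.mk _ k ∈ (K * A0).map (Ideal.Quotient.mk (K ^ 2)) := by
      refine Submodule.mul_induction_on hk2 (fun u hu v hv => ?_) fun u v hu hv => ?_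
      · rw [Ideal.map_mul]
        have hev : e v ∈ A0.map (Ideal.Quotient.mk (K ^ 2)) := by
          have := add_mem (Ideal.map_mono hKA (he v)) (Ideal.mem_map_of_mem (Ideal.Quotient.mk (K ^ 2)) hv)
          rwa [sub_add_cancel] at this
        have := add_mem (Ideal.mul_mem_mul (he u) hev)
          (Ideal.mul_mem_mul (he v) (Ideal.mem_map_of_mem (Ideal.Quotient.mk (K ^ 2)) hu))
        convert this using 1
        rw [map_mul, map_mul]
        ring
      · rw [map_add, map_add, add_sub_add_comm]
        exact add_mem hu hv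
    rw [AlgHom.comp_apply, show Φ k = 0 from hk, map_zero, zero_sub, neg_mem_iff,
      Ideal.mem_quotient_iff_mem_sup] at hstep
    refine (sup_le le_rfl ?_ : K * A0 ⊔ K ^ 2 ≤ K * A0) hstep
    rw [pow_two]
    exact Ideal.mul_mono_right hKA
  have hKn : ∀ n, K ≤ A0 ^ n := by
    intro n
    induction n with
    | zero => rw [pow_zero, Ideal.one_eq_top]; exact le_top
    | succ n ih => rw [pow_succ]; exact hKK.trans (Ideal.mul_mono_left ih)
  have hΦinj : Function.Injective Φ := (injective_iff_map_eq_zero Φ).2 fun x hx => iInf_aug_pow fun n => hKn n hx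
  exact ⟨P, inferInstance, inferInstance, hfin, hproj, ⟨AlgEquiv.ofBijective Φ ⟨hΦinj, hΦsurj⟩⟩⟩

end Groth.Agent.H15Magnet.Grad
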