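import Groth.Agent.H15Magnet.Grad.Basic
import Groth.Agent.H15Magnet.CharPt
import Groth.Agent.H15Magnet.Grading
import Groth.Agent.H15Magnet.Factor
import Groth.Agent.H15Magnet.Weights

/-!
# Actions of `A(M)` on affine schemes as gradings, and their attractors
-/

set_option autoImplicit false
set_option linter.unusedSectionVars false
set_option linter.style.haveILetI false
set_option backward.isDefEq.respectTransparency false
set_option backward.isDefEq.respectTransparency.types false
universe u

open CategoryTheory CategoryTheory.Limits MonoidalCategory CartesianMonoidalCategory MonObj AlgebraicGeometry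
  Opposite Magnet AddMonoidAlgebra

noncomputable section

namespace Groth.Agent.H15Magnet.Grad

variable {M : Type} [AddCommGroup M] {A R R' : Type u} [CommRing A] [CommRing R] [CommRing R']

/-- Evaluation of `A[M]` at a character. -/
def ev (φ : A →+* R) (χ : Multiplicative M →* R) : AddMonoidAlgebra A M →+* R :=
  liftNCRingHom φ χ fun _ _ => Commute.all _ _

@[simp] theorem ev_single (φ : A →+* R) (χ : Multiplicative M →* R) (m : M) (b : A) :
    ev φ χ (single m b) = φ b * χ (Multiplicative.ofAdd m) :=
  liftNC_single _ _ _ _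

theorem addAlg_ext {C : Type u} [CommRing C] {f g : AddMonoidAlgebra A M →+* C}
    (h0 : ∀ b, f (single 0 b) = g (single 0 b)) (h1 : ∀ m, f (single m 1) = g (single m 1)) : f = g :=
  AddMonoidAlgebra.ringHom_ext h0 h1

theorem comp_ev (g : R →+* R') (φ : A →+* R) (χ : Multiplicative M →* R) :
    g.comp (ev φ χ) = ev (g.comp φ) (g.toMonoidHom.comp χ) :=
  addAlg_ext (fun b => by simp) fun m => by simp

/-- The universal character. -/
def uM : Multiplicative M →* AddMonoidAlgebra A M := AddMonoidAlgebra.of A M

theorem uM_apply (m : M) : uM (A := A) (Multiplicative.ofAdd m) = single m 1 := rfl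

theorem ev_univ : ev (singleZeroRingHom : A →+* AddMonoidAlgebra A M) uM = RingHom.id _ :=
  addAlg_ext (fun b => by simp [uM]) fun m => by simp [uM]

variable {S : Scheme.{u}} {X : Over S} (a : MonAct (AMonS S M) X) (e : Spec (CommRingCat.of A) ≅ X.left)

/-- `δ` describes the action. -/
def IsFormula (δ : A →+* AddMonoidAlgebra A M) : Prop :=
  ∀ (R : Type u) [CommRing R] (str : Spec (CommRingCat.of R) ⟶ S) (χ : Multiplicative M →* R) (φ : A →+* R)
    (x : Over.mk str ⟶ X), x.left = Spec.map (CommRingCat.ofHom φ) ≫ e.hom →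
      (lift (mpt str χ) x ≫ a.act).left = Spec.map (CommRingCat.ofHom ((ev φ χ).comp δ)) ≫ e.hom

theorem exists_pt (z : Spec (CommRingCat.of R) ⟶ X.left) :
    ∃ φ : A →+* R, z = Spec.map (CommRingCat.ofHom φ) ≫ e.hom := by
  obtain ⟨φ, hφ⟩ := Spec.map_surjective (z ≫ e.inv)
  exact ⟨φ.hom, by rw [CommRingCat.ofHom_hom, hφ, Category.assoc, e.inv_hom_id, Category.comp_id]⟩

theorem pt_inj {φ ψ : A →+* R}
    (h : Spec.map (CommRingCat.ofHom φ) ≫ e.hom = Spec.map (CommRingCat.ofHom ψ) ≫ e.hom) : φ = ψ := by
  rw [cancel_mono] at h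
  exact congrArg CommRingCat.Hom.hom (Spec.map_injective h)

theorem exists_formula : ∃ δ : A →+* AddMonoidAlgebra A M, IsFormula a e δ := by
  let B := AddMonoidAlgebra A M
  let s1 : Spec (CommRingCat.of B) ⟶ S :=
    (Spec.map (CommRingCat.ofHom (singleZeroRingHom : A →+* B)) ≫ e.hom) ≫ X.hom
  let x1 : Over.mk s1 ⟶ X := Over.homMk (Spec.map (CommRingCat.ofHom singleZeroRingHom) ≫ e.hom) rfl
  obtain ⟨δ, hδ⟩ := exists_pt e (lift (mpt s1 uM) x1 ≫ a.act).left
  refine ⟨δ, fun R _ str χ φ x hx => ?_⟩
  let g := ev φ χ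
  have hg : g.comp singleZeroRingHom = φ := RingHom.ext fun b => by simp [g]
  have hw : Spec.map (CommRingCat.ofHom g) ≫ s1 = str := by
    refine Eq.trans ?_ (Over.w x)
    rw [hx]
    simp only [s1, ← Category.assoc, ← Spec.map_comp, ← CommRingCat.ofHom_comp, hg]
  let j : Over.mk str ⟶ Over.mk s1 := Over.homMk (Spec.map (CommRingCat.ofHom g)) hw
  have hjx : j ≫ x1 = x := by
    apply Over.OverMorphism.ext
    show Spec.map _ ≫ Spec.map _ ≫ e.hom = _
    rw [hx, ← Spec.map_comp_assoc, ← CommRingCat.ofHom_comp, hg]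
  have hjm : j ≫ mpt s1 uM = mpt str χ := by
    refine amonS_hom_ext ?_
    rw [Over.comp_left, Category.assoc, mpt_fst, mpt_fst]
    show Spec.map (CommRingCat.ofHom g) ≫ _ = _
    rw [← Spec.map_comp, ← CommRingCat.ofHom_comp, comp_charRingHom]
    congr 3
    exact MonoidHom.ext fun m => by
      obtain ⟨m, rfl⟩ := Multiplicative.ofAdd.surjective m
      show g (single m 1) = _
      simp [g]
  have h : lift (mpt str χ) x ≫ a.act = j ≫ lift (mpt s1 uM) x1 ≫ a.act := by
    rw [comp_lift_assoc, hjx, hjm]
  rw [h, Over.comp_left, hδ]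
  show Spec.map _ ≫ Spec.map _ ≫ _ = _
  rw [← Spec.map_comp_assoc, ← CommRingCat.ofHom_comp]

/-- The coaction. -/
def coact : A →+* AddMonoidAlgebra A M := (exists_formula a e).choose

theorem coact_formula : IsFormula a e (coact a e) := (exists_formula a e).choose_spec

theorem ev_one_eq_sum (v : AddMonoidAlgebra A M) : ev (RingHom.id A) 1 v = v.coeff.sum fun _ x => x := by
  induction v using AddMonoidAlgebra.induction_linear with
  | zero => simp
  | add x y hx hy => rw [map_add, hx, hy, coeff_add, Finsupp.sum_add_index' (fun _ => rfl) fun _ _ _ => rfl]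
  | single m b => simp

theorem isGrading : IsGrading (coact a e) := by
  classical
  let δ := coact a e
  refine ⟨fun z => ?_, fun z n => ?_⟩
  · let str : Spec (CommRingCat.of A) ⟶ S := (Spec.map (CommRingCat.ofHom (RingHom.id A)) ≫ e.hom) ≫ X.hom
    let x : Over.mk str ⟶ X := Over.homMk (Spec.map (CommRingCat.ofHom (RingHom.id A)) ≫ e.hom) rfl
    have h := coact_formula a e A str 1 (RingHom.id A) x rfl
    rw [mpt_one, ← Hom.one_def, a.lift_one_act] at h
    rw [← ev_one_eq_sum]
    exact (RingHom.congr_fun (pt_inj e h) z).symm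
  · let B := AddMonoidAlgebra A M
    let B2 := AddMonoidAlgebra B M
    let CC : A →+* B2 := (singleZeroRingHom : B →+* B2).comp singleZeroRingHom
    let str : Spec (CommRingCat.of B2) ⟶ S := (Spec.map (CommRingCat.ofHom CC) ≫ e.hom) ≫ X.hom
    let x : Over.mk str ⟶ X := Over.homMk (Spec.map (CommRingCat.ofHom CC) ≫ e.hom) rfl
    let c : Multiplicative M →* B2 := (singleZeroRingHom : B →+* B2).toMonoidHom.comp uM
    let d : Multiplicative M →* B2 := uM
    have h := coact_formula a e _ str (c * d) CC x rfl
    rw [mpt_mul, a.lift_mul_act] at h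
    have h' := coact_formula a e _ str c _ (lift (mpt str d) x ≫ a.act) (coact_formula a e _ str d CC x rfl)
    have key : ev ((ev CC d).comp δ) c (δ z) = ev CC (c * d) (δ z) :=
      RingHom.congr_fun (pt_inj e (h'.symm.trans h)) z
    have hd : ∀ w : B, ev CC d w = mapRingHom M (singleZeroRingHom : A →+* B) w :=
      fun w => RingHom.congr_fun (addAlg_ext (f := ev CC d) (fun b => by
          rw [ev_single, mapRingHom_single, ofAdd_zero, MonoidHom.map_one, _root_.mul_one]; rfl)
        fun m => by
          rw [ev_single, RingHom.map_one, _root_.one_mul, mapRingHom_single, RingHom.map_one]; rfl) w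
    have L1 : ∀ (v : B) (l : M), ((ev CC (c * d) v).coeff l).coeff n = if l = n then v.coeff n else 0 := by
      intro v l
      induction v using AddMonoidAlgebra.induction_linear with
      | zero => simp
      | add x y hx hy =>
        rw [map_add, coeff_add, Finsupp.add_apply, coeff_add, Finsupp.add_apply, hx, hy, coeff_add,
          Finsupp.add_apply]
        split_ifs <;> simp
      | single m b =>
        have : ev CC (c * d) (single m b) = single m (single m b) := by
          rw [ev_single]
          show single (0 : M) (single (0 : M) b) * (single (0 : M) (single m (1 : A)) * single m (1 : B)) = _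
          simp [single_mul_single]
        rw [this, coeff_single, coeff_single, Finsupp.single_apply, Finsupp.single_apply]
        by_cases h1 : m = l
        · subst h1
          rw [if_pos rfl, coeff_single, Finsupp.single_apply]
          split_ifs <;> simp_all
        · rw [if_neg h1, coeff_zero, Finsupp.zero_apply]
          split_ifs <;> simp_all
    have L2 : ∀ (v : B) (l : M), ((ev ((ev CC d).comp δ) c v).coeff l).coeff n = (δ (v.coeff n)).coeff l := by
      intro v l
      induction v using AddMonoidAlgebra.induction_linear with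
      | zero => simp
      | add x y hx hy =>
        rw [map_add, coeff_add, Finsupp.add_apply, coeff_add, Finsupp.add_apply, hx, hy, coeff_add,
          Finsupp.add_apply, map_add, coeff_add, Finsupp.add_apply]
      | single m b =>
        rw [ev_single, RingHom.comp_apply, hd,
          show c (Multiplicative.ofAdd m) = single (0 : M) (single m (1 : A)) from rfl,
          coeff_mul_single_zero, coeff_mapRingHom, coeff_single,
          Finsupp.single_apply]
        show (single 0 ((δ b).coeff l) * single m (1 : A)).coeff n = _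
        rw [single_mul_single, zero_add, _root_.mul_one, coeff_single, Finsupp.single_apply]
        split_ifs <;> simp
    refine AddMonoidAlgebra.ext (Finsupp.ext fun l => ?_)
    rw [← L2, key, L1, coeff_single, Finsupp.single_apply]
    by_cases h : n = l
    · subst h; simp [δ]
    · rw [if_neg (Ne.symm h), if_neg h]

/-- Constants have degree zero. -/
theorem homog_const {k : Type u} [CommRing k] (κ : k →+* A) (σ : Spec (CommRingCat.of k) ⟶ S) [Mono σ]
    (hs : e.hom ≫ X.hom = Spec.map (CommRingCat.ofHom κ) ≫ σ) (c : k) : Homog (coact a e) 0 (κ c) := by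
  let B := AddMonoidAlgebra A M
  let s1 : Spec (CommRingCat.of B) ⟶ S :=
    (Spec.map (CommRingCat.ofHom (singleZeroRingHom : A →+* B)) ≫ e.hom) ≫ X.hom
  let x1 : Over.mk s1 ⟶ X := Over.homMk (Spec.map (CommRingCat.ofHom singleZeroRingHom) ≫ e.hom) rfl
  have h := coact_formula a e B s1 uM singleZeroRingHom x1 rfl
  rw [ev_univ, RingHom.id_comp] at h
  have h2 : Spec.map (CommRingCat.ofHom ((coact a e).comp κ)) ≫ σ =
      Spec.map (CommRingCat.ofHom ((singleZeroRingHom : A →+* B).comp κ)) ≫ σ := by
    rw [CommRingCat.ofHom_comp, CommRingCat.ofHom_comp, Spec.map_comp, Spec.map_comp, Category.assoc,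
      Category.assoc, ← hs, ← Category.assoc, ← Category.assoc, ← h]
    exact Over.w (lift (mpt s1 uM) x1 ≫ a.act)
  rw [cancel_mono] at h2
  exact RingHom.congr_fun (congrArg CommRingCat.Hom.hom (Spec.map_injective h2)) c

attribute [local instance] ULift.algebra'
attribute [local instance 100000] rmCommRing rmSemiring rmNonAssoc

theorem spR_uphi {N : AddSubmonoid M} :
    (Algebra.TensorProduct.map (monMap.{u} N.subtype) (AlgHom.id (Z.{u}) R)).toRingHom.comp (uphi N R) =
      uphi M R := by
  refine RingHom.ext fun r => ?_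
  simp [uphi_apply]

set_option maxHeartbeats 2000000 in
set_option synthInstance.maxHeartbeats 200000 in
/-- An affine point lies in an attractor iff it kills the homogeneous elements of degree outside. -/
theorem exists_attr_iff {k : Type u} [CommRing k] (κ : k →+* A) (σ : Spec (CommRingCat.of k) ⟶ S) [Mono σ]
    (hs : e.hom ≫ X.hom = Spec.map (CommRingCat.ofHom κ) ≫ σ) (L : AddSubmonoid M)
    (str : Spec (CommRingCat.of R) ⟶ S) (x : Over.mk str ⟶ X) (φ : A →+* R)
    (hx : x.left = Spec.map (CommRingCat.ofHom φ) ≫ e.hom) :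
    (∃ ψ : (attr a L).obj (op (Over.mk str)), (attrToX a L).app _ ψ = x) ↔
      outside (coact a e) L ≤ RingHom.ker φ := by
  classical
  haveI : IsSeparated X.hom := by
    have : X.hom = e.inv ≫ Spec.map (CommRingCat.ofHom κ) ≫ σ := by rw [← hs, e.inv_hom_id_assoc]
    rw [this]
    infer_instance
  let incl : RM L R →+* RM M R :=
    (Algebra.TensorProduct.map (monMap.{u} L.subtype) (AlgHom.id (Z.{u}) R)).toRingHom
  let θ : A →+* RM M R := (ev ((uphi M R).comp φ) (uchi M R)).comp (coact a e)
  have horb : (PtR str (uchi M R) (uphi M R) ≫ (AMonS S M ◁ x) ≫ a.act).left =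
      Spec.map (CommRingCat.ofHom θ) ≫ e.hom := by
    rw [PtR, lift_whiskerLeft_assoc]
    refine coact_formula a e (RM M R) _ (uchi M R) _ _ ?_
    rw [Over.comp_left, hx]
    show Spec.map _ ≫ _ = _
    rw [← Spec.map_comp_assoc, ← CommRingCat.ofHom_comp]
  have hθ : ∀ {m b}, Homog (coact a e) m b → θ b = uchi M R (Multiplicative.ofAdd m) * uphi M R (φ b) :=
    fun {m b} hb => by
      show ev _ _ (coact a e b) = _
      rw [hb, ev_single, mul_comm]
      rfl
  have hmap : PtR str (uchi M R) (uphi M R) ≫ (AMonS.map S L.subtype ▷ Over.mk str) =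
      spR str incl spR_uphi ≫ PtR str (uchi L R) (uphi L R) := by
    rw [spR_PtR, PtR, lift_whiskerRight, mpt_map, PtR]
    congr 2
    refine MonoidHom.ext fun m => ?_
    simp [incl, uchi_apply]
  constructor
  · rintro ⟨ψ, hψ⟩
    rw [outside_le_iff]
    intro m b hm hb
    obtain ⟨g, hg⟩ := exists_pt e (PtR str (uchi L R) (uphi L R) ≫ ψ.1).left
    have h1 := horb
    rw [← factor_of_eq a L _ ψ x hψ, ← Category.assoc, hmap, Category.assoc, Over.comp_left, hg, spR_left,
      ← Spec.map_comp_assoc, ← CommRingCat.ofHom_comp] at h1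
    have h2 := RingHom.congr_fun (pt_inj e h1) b
    rw [hθ hb] at h2
    have h3 := (mem_range_iff L _).1 ⟨g b, h2⟩ m hm
    rwa [coef_mul_uphi, if_pos rfl] at h3
  · intro hle
    have hrange : ∀ b, θ b ∈ incl.range := fun b => by
      induction b using (isGrading a e).induction with
      | zero => exact ⟨0, by rw [RingHom.map_zero, RingHom.map_zero]⟩
      | add x y hx hy => rw [RingHom.map_add]; exact add_mem hx hy
      | homog m b hb =>
        rw [hθ hb]
        refine (mem_range_iff L _).2 fun l hl => ?_
        rw [coef_mul_uphi]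
        split_ifs with heq
        · exact (outside_le_iff.1 hle) m b (fun hm => hl (heq ▸ hm)) hb
        · rfl
    let eq := RingEquiv.ofBijective incl.rangeRestrict
      ⟨fun u v huv => monMap_tensor_injective (R := R) L.subtype Subtype.val_injective (congrArg Subtype.val huv),
        incl.rangeRestrict_surjective⟩
    let θ' : A →+* RM L R := eq.symm.toRingHom.comp (θ.codRestrict incl.range hrange)
    have hθ' : incl.comp θ' = θ := RingHom.ext fun b =>
      congrArg Subtype.val (eq.apply_symm_apply ⟨θ b, hrange b⟩)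
    have hbase : Spec.map (CommRingCat.ofHom θ') ≫ e.hom ≫ X.hom = Spec.map (CommRingCat.ofHom (uphi L R)) ≫ str := by
      have hstr : str = Spec.map (CommRingCat.ofHom (φ.comp κ)) ≫ σ := by
        refine (Over.w x).symm.trans ?_
        rw [hx, Category.assoc, hs, ← Spec.map_comp_assoc, ← CommRingCat.ofHom_comp]
      rw [hstr, hs, ← Spec.map_comp_assoc, ← Spec.map_comp_assoc, ← CommRingCat.ofHom_comp,
        ← CommRingCat.ofHom_comp]
      congr 3
      refine RingHom.ext fun c => monMap_tensor_injective (R := R) L.subtype Subtype.val_injective ?_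
      show (incl.comp θ') (κ c) = (incl.comp (uphi L R)) (φ (κ c))
      rw [hθ', show incl.comp (uphi L R) = uphi M R from spR_uphi, hθ (homog_const a e κ σ hs c),
        ofAdd_zero, MonoidHom.map_one, _root_.one_mul]
    let P : PB str (uphi L R) ⟶ X :=
      Over.homMk (Spec.map (CommRingCat.ofHom θ') ≫ e.hom) (by rw [Category.assoc]; exact hbase)
    let Ψ : AMonS S L ⊗ Over.mk str ⟶ X := inv (PtR str (uchi L R) (uphi L R)) ≫ P
    obtain ⟨p, -, hp⟩ := exists_attr_of_factor a L _ x Ψ (by
      rw [← cancel_epi (PtR str (B := RM M R) (uchi M R) (uphi M R)), ← Category.assoc, hmap, Category.assoc]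
      simp only [Ψ, IsIso.hom_inv_id_assoc]
      apply Over.OverMorphism.ext
      rw [horb]
      show Spec.map _ ≫ Spec.map _ ≫ e.hom = _
      rw [← Spec.map_comp_assoc, ← CommRingCat.ofHom_comp, hθ'])
    exact ⟨p, hp⟩

set_option maxHeartbeats 2000000 in
set_option synthInstance.maxHeartbeats 200000 in
/-- The limit along a face, on rings. -/
theorem exists_lim {L F : AddSubmonoid M} (hF : IsFace L F) {k : Type u} [CommRing k] (κ : k →+* A)
    (σ : Spec (CommRingCat.of k) ⟶ S) [Mono σ] (hs : e.hom ≫ X.hom = Spec.map (CommRingCat.ofHom κ) ≫ σ)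
    (str : Spec (CommRingCat.of R) ⟶ S) (ψ : (attr a L).obj (op (Over.mk str))) (φ : A →+* R)
    (hφ : ((attrToX a L).app _ ψ).left = Spec.map (CommRingCat.ofHom φ) ≫ e.hom) :
    ∃ φ' : A →+* R, ((attrToX a F).app _ ((attrFace a hF).app _ ψ)).left = Spec.map (CommRingCat.ofHom φ') ≫ e.hom ∧
      ∀ (m : M) [Decidable (m ∈ F)] (b : A), Homog (coact a e) m b → φ' b = if m ∈ F then φ b else 0 := by
  classical
  let x : Over.mk str ⟶ X := (attrToX a L).app _ ψ
  let incl : RM L R →+* RM M R :=
    (Algebra.TensorProduct.map (monMap.{u} L.subtype) (AlgHom.id (Z.{u}) R)).toRingHom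
  obtain ⟨g, hg⟩ := exists_pt e (PtR str (uchi L R) (uphi L R) ≫ ψ.1).left
  have hincl : Function.Injective incl := monMap_tensor_injective (R := R) L.subtype Subtype.val_injective
  have hg2 : ∀ {m b}, Homog (coact a e) m b → incl (g b) = uchi M R (Multiplicative.ofAdd m) * uphi M R (φ b) := by
    intro m b hb
    have horb : (PtR str (uchi M R) (uphi M R) ≫ (AMonS S M ◁ x) ≫ a.act).left =
        Spec.map (CommRingCat.ofHom ((ev ((uphi M R).comp φ) (uchi M R)).comp (coact a e))) ≫ e.hom := by
      rw [PtR, lift_whiskerLeft_assoc]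
      refine coact_formula a e (RM M R) _ (uchi M R) _ _ ?_
      rw [Over.comp_left, show x.left = _ from hφ]
      show Spec.map _ ≫ _ = _
      rw [← Spec.map_comp_assoc, ← CommRingCat.ofHom_comp]
    have hmap : PtR str (uchi M R) (uphi M R) ≫ (AMonS.map S L.subtype ▷ Over.mk str) =
        spR str incl spR_uphi ≫ PtR str (uchi L R) (uphi L R) := by
      rw [spR_PtR, PtR, lift_whiskerRight, mpt_map, PtR]
      congr 2
      refine MonoidHom.ext fun m => ?_
      simp [incl, uchi_apply]
    rw [← factor_of_eq a L _ ψ x rfl, ← Category.assoc, hmap, Category.assoc, Over.comp_left, hg, spR_left,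
      ← Spec.map_comp_assoc, ← CommRingCat.ofHom_comp] at horb
    refine (RingHom.congr_fun (pt_inj e horb) b).trans ?_
    show ev _ _ (coact a e b) = _
    rw [hb, ev_single, mul_comm]
    rfl
  let ξ0 : Multiplicative L →* R := (charRingHom (1 : Multiplicative F →* R)).toMonoidHom.comp (faceMonoidHom (Z.{u}) hF)
  let j : Over.mk str ⟶ PB str (RingHom.id R) := Over.homMk (𝟙 _) (by simp)
  have hj : j ≫ tpR str (RingHom.id R) = 𝟙 _ := by
    apply Over.OverMorphism.ext
    simp [j, tpR]
  refine ⟨(evR ξ0 (RingHom.id R)).comp g, ?_, fun m _ b hb => ?_⟩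
  · have h1 : (attrToX a F).app _ ((attrFace a hF).app _ ψ) = j ≫ PtR str ξ0 (RingHom.id R) ≫ ψ.1 := by
      show lift (toUnit _ ≫ η[AMonS S F]) (𝟙 _) ≫ (AMonS.faceMap S hF ▷ _) ≫ ψ.1 = _
      rw [lift_whiskerRight_assoc, PtR, comp_lift_assoc, hj]
      congr 2
      rw [← mpt_one, mpt_face]
      refine amonS_hom_ext ?_
      rw [Over.comp_left, Category.assoc, mpt_fst, mpt_fst]
      exact (Category.id_comp _).symm
    have h2 : PtR str ξ0 (RingHom.id R) =
        spR str (evR ξ0 (RingHom.id R)) (evR_comp_uphi ξ0 (RingHom.id R)) ≫ PtR str (uchi L R) (uphi L R) := by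
      rw [spR_PtR, evR_comp_uchi]
    rw [h1, h2, Category.assoc, Over.comp_left, Over.comp_left, hg, spR_left, ← Spec.map_comp_assoc,
      ← CommRingCat.ofHom_comp]
    exact Category.id_comp _
  · by_cases hm : m ∈ L
    · have e1 : g b = uchi L R (Multiplicative.ofAdd ⟨m, hm⟩) * uphi L R (φ b) := hincl (by
        rw [hg2 hb, RingHom.map_mul, show incl (uphi L R (φ b)) = uphi M R (φ b) from RingHom.congr_fun spR_uphi _]
        congr 1
        simp [incl, uchi_apply])
      rw [RingHom.comp_apply, e1, RingHom.map_mul, evR_uchi, evR_uphi, RingHom.id_apply]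
      show charRingHom _ (faceMonoidHom (Z.{u}) hF (Multiplicative.ofAdd ⟨m, hm⟩)) * _ = _
      split_ifs with h
      · rw [faceMonoidHom_apply_of_mem _ hF ⟨m, hm⟩ h, charRingHom_single, MonoidHom.one_apply, _root_.one_mul]
      · rw [faceMonoidHom_apply_of_not_mem _ hF ⟨m, hm⟩ h, RingHom.map_zero, zero_mul]
    · have hφb : φ b = 0 := (outside_le_iff.1 ((exists_attr_iff a e κ σ hs L str x φ hφ).1 ⟨ψ, rfl⟩)) m b hm hb
      have e1 : g b = 0 := hincl (by rw [hg2 hb, hφb, RingHom.map_zero, mul_zero, RingHom.map_zero])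
      rw [RingHom.comp_apply, e1, RingHom.map_zero, hφb, ite_self]

variable {k : Type u} [CommRing k] (κ : k →+* A) (σ : Spec (CommRingCat.of k) ⟶ S) [Mono σ]

/-- The attractor of an affine scheme. -/
def attrSpec (L : AddSubmonoid M) : Over S :=
  Over.mk ((Spec.map (CommRingCat.ofHom (Ideal.Quotient.mk (outside (coact a e) L))) ≫ e.hom) ≫ X.hom)

/-- Its map to `X`. -/
def attrPt (L : AddSubmonoid M) : attrSpec a e L ⟶ X :=
  Over.homMk (Spec.map (CommRingCat.ofHom (Ideal.Quotient.mk (outside (coact a e) L))) ≫ e.hom) rfl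

include κ σ in
/-- Attractors of affine schemes are affine. -/
theorem exists_representableBy (hs : e.hom ≫ X.hom = Spec.map (CommRingCat.ofHom κ) ≫ σ) (L : AddSubmonoid M) :
    ∃ r : (attr a L).RepresentableBy (attrSpec a e L), ∀ (T : Over S) (g : T ⟶ attrSpec a e L),
      (attrToX a L).app (op T) (r.homEquiv g) = g ≫ attrPt a e L := by
  haveI : IsSeparated X.hom := by
    have : X.hom = e.inv ≫ Spec.map (CommRingCat.ofHom κ) ≫ σ := by rw [← hs, e.inv_hom_id_assoc]
    rw [this]
    infer_instance
  obtain ⟨u, hu⟩ := (exists_attr_iff a e κ σ hs L _ (attrPt a e L) _ rfl).2 (Ideal.mk_ker (I := outside (coact a e) L)).ge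
  haveI : IsClosedImmersion (Spec.map (CommRingCat.ofHom (Ideal.Quotient.mk (outside (coact a e) L)))) :=
    IsClosedImmersion.spec_of_surjective _ Ideal.Quotient.mk_surjective
  haveI : Mono (attrPt a e L).left := inferInstanceAs (Mono (Spec.map _ ≫ e.hom))
  haveI : Mono (attrPt a e L) := (Over.forget S).mono_of_mono_map (show Mono (attrPt a e L).left from inferInstance)
  have hmap : ∀ {T : Over S} (g : T ⟶ attrSpec a e L),
      (attrToX a L).app (op T) ((attr a L).map g.op u) = g ≫ attrPt a e L := fun g =>
    (toX_map a L g u).trans (congrArg (g ≫ ·) hu)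
  have hbij : ∀ T : Over S, Function.Bijective fun g : T ⟶ attrSpec a e L => (attr a L).map g.op u := by
    intro T
    refine ⟨fun g g' h => ?_, fun ψ => ?_⟩
    · rw [← cancel_mono (attrPt a e L), ← hmap, ← hmap]
      exact congrArg ((attrToX a L).app (op T)) h
    · let x : T ⟶ X := (attrToX a L).app (op T) ψ
      have hloc : ∀ i, ∃ gi : T.left.affineCover.X i ⟶ (attrSpec a e L).left,
          gi ≫ (attrPt a e L).left = T.left.affineCover.f i ≫ x.left := fun i => by
        let str := T.left.affineCover.f i ≫ T.hom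
        let j : Over.mk str ⟶ T := Over.homMk (T.left.affineCover.f i) rfl
        obtain ⟨φ, hφ⟩ := exists_pt e (j ≫ x).left
        have hk := (exists_attr_iff a e κ σ hs L str (j ≫ x) φ hφ).1
          ⟨(attr a L).map j.op ψ, toX_map a L j ψ⟩
        refine ⟨Spec.map (CommRingCat.ofHom (Ideal.Quotient.lift _ φ hk)), ?_⟩
        refine Eq.trans ?_ hφ.symm
        show Spec.map _ ≫ Spec.map _ ≫ e.hom = _
        rw [← Spec.map_comp_assoc, ← CommRingCat.ofHom_comp]
        rfl
      choose gi hgi using hloc
      let g0 := T.left.affineCover.glueMorphisms gi fun i i' => by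
        rw [← cancel_mono (attrPt a e L).left, Category.assoc, Category.assoc, hgi, hgi, pullback.condition_assoc]
      have hg0 : g0 ≫ (attrPt a e L).left = x.left :=
        T.left.affineCover.hom_ext _ _ fun i => by
          rw [← Category.assoc, Scheme.Cover.ι_glueMorphisms, hgi]
      let g : T ⟶ attrSpec a e L := Over.homMk g0 (by
        show g0 ≫ (_ ≫ X.hom) = _
        rw [← Category.assoc]
        exact (congrArg (· ≫ X.hom) hg0).trans (Over.w x))
      exact ⟨g, attrToX_injective a L T ((hmap g).trans (Over.OverMorphism.ext hg0))⟩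
  exact ⟨{ homEquiv := fun {T} => Equiv.ofBijective _ (hbij T)
           homEquiv_comp := fun f g => Functor.map_comp_apply (attr a L) g.op f.op u },
    fun T g => hmap g⟩

end Groth.Agent.H15Magnet.Grad
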