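import Groth.Agent.H15Magnet.Grad.LiftFace

/-!
# The push-out of the face span, with its action
-/

set_option autoImplicit false
set_option linter.unusedSectionVars false
set_option linter.style.haveILetI false
set_option backward.isDefEq.respectTransparency false
set_option backward.isDefEq.respectTransparency.types false
universe u

open CategoryTheory CategoryTheory.Limits MonoidalCategory CartesianMonoidalCategory MonObj AlgebraicGeometry
  Opposite Magnet AddMonoidAlgebra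
open Groth.Agent.H7Flat (RingSq)

noncomputable section

namespace Groth.Agent.H15Magnet.Grad

attribute [local instance] ULift.algebra'
attribute [local instance 100000] rmCommRing rmSemiring rmNonAssoc

variable {S : Scheme.{u}} {A B : Type u} [CommRing A] [CommRing B] (str : Spec (CommRingCat.of A) ⟶ S)

/-- The universal point of `A(N) × Spec B`. -/
def ptB (N : Type) [AddCommMonoid N] (φ : A →+* B) :
    PB str ((uphi N B).comp φ) ⟶ AMonS S N ⊗ PB str φ :=
  lift (mpt _ (uchi N B)) (spR str (uphi N B) rfl)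

theorem ptB_left (N : Type) [AddCommMonoid N] (φ : A →+* B) :
    (ptB str N φ).left = (chart (Spec.map (CommRingCat.ofHom φ) ≫ str) N).inv := by
  apply (isPullback_amon N (PB str φ)).hom_ext
  · rw [chart_inv_snd, ← Over.comp_left, ptB, lift_snd]
    rfl
  · rw [chart_inv_fstA, fstA, ← Category.assoc, ← Over.comp_left, ptB, lift_fst, mpt_fst]
    refine congrArg Spec.map (CommRingCat.hom_ext (charRingHom_ext fun m => ?_))
    simp [uchi]

instance (N : Type) [AddCommMonoid N] (φ : A →+* B) : IsIso (ptB str N φ) := by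
  haveI : IsIso (ptB str N φ).left := by rw [ptB_left]; infer_instance
  haveI : IsIso ((Over.forget S).map (ptB str N φ)) := this
  exact isIso_of_reflects_iso _ (Over.forget S)

theorem pt_ptB {N : Type} [AddCommMonoid N] {C : Type u} [CommRing C] (φ : A →+* B) (χ : Multiplicative N →* C)
    (ψ : B →+* C) (φ' : A →+* C) (h : ψ.comp φ = φ') :
    lift (mpt _ χ) (spR str ψ h) =
      spR str (evR χ ψ) (by rw [← RingHom.comp_assoc, evR_comp_uphi, h]) ≫ ptB str N φ := by
  rw [ptB, comp_lift, spR_mpt, evR_comp_uchi, spR_comp]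
  exact congrArg (fun z => lift _ z) (spR_congr str (evR_comp_uphi χ ψ).symm _ _)

variable {M : Type} [AddCommGroup M] {N F : AddSubmonoid M} (hF : IsFace N F) (I : Ideal A)

theorem gp_le_univ :
    gpK N F I ≤ RingHom.ker (evR (resN N (uchi M (RM N A ⧸ gpK N F I)) *
      (((uphi M (RM N A ⧸ gpK N F I)).comp (Ideal.Quotient.mk _)).toMonoidHom.comp (uchi N A)))
      ((uphi M (RM N A ⧸ gpK N F I)).comp ((Ideal.Quotient.mk (gpK N F I)).comp (uphi N A)))) :=
  gpK_stable I _ _ _ (by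
    rw [← RingHom.comp_assoc, ← comp_evR, evR_self, RingHom.comp_id]
    intro b hb
    rw [RingHom.mem_ker, RingHom.comp_apply, Ideal.Quotient.eq_zero_iff_mem.2 hb, RingHom.map_zero])

/-- The coaction on the push-out. -/
def gpCoact : RM N A ⧸ gpK N F I →+* RM M (RM N A ⧸ gpK N F I) :=
  Ideal.Quotient.lift _ _ fun _ hb => gp_le_univ (N := N) (F := F) I hb

/-- The action on the push-out, as a map. -/
def gpAct : AMonS S M ⊗ gpObj (N := N) (F := F) I str ⟶ gpObj (N := N) (F := F) I str :=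
  inv (ptB str M ((Ideal.Quotient.mk (gpK N F I)).comp (uphi N A))) ≫
    spR str (gpCoact (N := N) (F := F) I) (by
      rw [← RingHom.comp_assoc, gpCoact, Ideal.Quotient.lift_comp_mk, evR_comp_uphi])

set_option synthInstance.maxHeartbeats 200000 in
set_option maxHeartbeats 1000000 in
theorem gpAct_pt {C : Type u} [CommRing C] (χ : Multiplicative M →* C) (ξ : Multiplicative N →* C) (φ : A →+* C)
    (g g' : RM N A ⧸ gpK N F I →+* C) (hg : g.comp (Ideal.Quotient.mk _) = evR ξ φ)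
    (hg' : g'.comp (Ideal.Quotient.mk _) = evR (resN N χ * ξ) φ) :
    lift (mpt _ χ) (spR str g (base_eq hg)) ≫ gpAct str I = spR str g' (base_eq hg') := by
  have hfac : (evR χ g).comp (gpCoact (N := N) (F := F) I) = g' := Ideal.Quotient.ringHom_ext (by
    rw [RingHom.comp_assoc, gpCoact, Ideal.Quotient.lift_comp_mk, comp_evR, hg', MonoidHom.comp_mul]
    congr 1
    · congr 1
      · refine MonoidHom.ext fun n => ?_
        exact evR_uchi χ g _
      · refine MonoidHom.ext fun n => ?_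
        show evR χ g (uphi M _ (Ideal.Quotient.mk _ (uchi N A n))) = ξ n
        rw [evR_uphi]
        exact (RingHom.congr_fun hg _).trans (evR_uchi ξ φ n)
    · rw [← RingHom.comp_assoc, evR_comp_uphi]
      exact base_eq hg)
  rw [pt_ptB, gpAct, Category.assoc, IsIso.hom_inv_id_assoc, spR_comp]
  exact spR_congr str hfac _ _

omit hF in
theorem gp_pt {C : Type u} [CommRing C] {y : Spec (CommRingCat.of C) ⟶ S}
    (z : Over.mk y ⟶ gpObj (N := N) (F := F) I str) :
    ∃ (g : RM N A ⧸ gpK N F I →+* C) (φ : A →+* C) (_ : y = Spec.map (CommRingCat.ofHom φ) ≫ str)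
      (h : g.comp ((Ideal.Quotient.mk _).comp (uphi N A)) = φ),
      HEq z (spR str g h) := by
  obtain ⟨g, hg⟩ := Spec.map_surjective z.left
  have hy : y = Spec.map (CommRingCat.ofHom (g.hom.comp ((Ideal.Quotient.mk _).comp (uphi N A)))) ≫ str := by
    rw [CommRingCat.ofHom_comp, Spec.map_comp, Category.assoc, CommRingCat.ofHom_hom, hg]
    exact (Over.w z).symm
  refine ⟨g.hom, _, hy, rfl, ?_⟩
  subst hy
  exact heq_of_eq (Over.OverMorphism.ext hg.symm)

set_option maxHeartbeats 1000000 in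
/-- The action of `A(M)` on the push-out. -/
theorem exists_gp_action :
    ∃ aP : MonAct (AMonS S M) (gpObj (N := N) (F := F) I str), aP.act = gpAct str I := by
  classical
  have hpt : ∀ {C : Type u} [CommRing C] (g : RM N A ⧸ gpK N F I →+* C),
      g.comp (Ideal.Quotient.mk _) = evR ((g.comp (Ideal.Quotient.mk _)).toMonoidHom.comp (uchi N A))
        (g.comp ((Ideal.Quotient.mk _).comp (uphi N A))) := fun g => by
    conv_lhs => rw [← RingHom.comp_id (g.comp (Ideal.Quotient.mk _)), ← evR_self, comp_evR]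
    rfl
  have hex : ∀ {C : Type u} [CommRing C] (χ : Multiplicative M →* C) (ξ : Multiplicative N →* C) (φ : A →+* C)
      (g : RM N A ⧸ gpK N F I →+* C), g.comp (Ideal.Quotient.mk _) = evR ξ φ →
        ∃ g' : RM N A ⧸ gpK N F I →+* C, g'.comp (Ideal.Quotient.mk _) = evR (resN N χ * ξ) φ :=
    fun χ ξ φ g hg => ⟨Ideal.Quotient.lift _ _ fun b hb => gpK_stable I χ ξ φ (fun c hc => by
      rw [RingHom.mem_ker, ← hg, RingHom.comp_apply, Ideal.Quotient.eq_zero_iff_mem.2 hc, RingHom.map_zero]) hb,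
      RingHom.ext fun _ => rfl⟩
  refine ⟨MonAct.mk' (gpAct str I) (fun T x => ?_) (fun T g h x => ?_), rfl⟩
  · apply Over.OverMorphism.ext
    refine T.left.affineCover.hom_ext _ _ fun i => ?_
    let j : Over.mk (T.left.affineCover.f i ≫ T.hom) ⟶ T := Over.homMk (T.left.affineCover.f i) rfl
    suffices e : ∀ (C : Type u) [CommRing C] (y : Spec (CommRingCat.of C) ⟶ S)
        (z : Over.mk y ⟶ gpObj (N := N) (F := F) I str),
        lift (mpt y (1 : Multiplicative M →* C)) z ≫ gpAct str I = z by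
      suffices e' : j ≫ lift (1 : T ⟶ AMonS S M) x ≫ gpAct str I = j ≫ x from congrArg CommaMorphism.left e'
      rw [comp_lift_assoc, Hom.one_def, ← Category.assoc j, comp_toUnit, ← mpt_one]
      exact e _ _ (j ≫ x)
    intro C _ y z
    obtain ⟨g, φ, hy, hg, hz⟩ := gp_pt str I z
    subst hy
    subst hg
    rw [eq_of_heq hz]
    exact gpAct_pt str I 1 _ _ g g (hpt g) ((hpt g).trans (by
      rw [show resN N (1 : Multiplicative M →* C) = 1 from MonoidHom.one_comp _, _root_.one_mul]))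
  · apply Over.OverMorphism.ext
    refine T.left.affineCover.hom_ext _ _ fun i => ?_
    let j : Over.mk (T.left.affineCover.f i ≫ T.hom) ⟶ T := Over.homMk (T.left.affineCover.f i) rfl
    suffices e : ∀ (C : Type u) [CommRing C] (y : Spec (CommRingCat.of C) ⟶ S) (χ χ' : Multiplicative M →* C)
        (z : Over.mk y ⟶ gpObj (N := N) (F := F) I str),
        lift (mpt y (χ * χ')) z ≫ gpAct str I =
          lift (mpt y χ) (lift (mpt y χ') z ≫ gpAct str I) ≫ gpAct str I by
      suffices e' : j ≫ lift (g * h) x ≫ gpAct str I = j ≫ lift g (lift h x ≫ gpAct str I) ≫ gpAct str I from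
        congrArg CommaMorphism.left e'
      obtain ⟨χ, hχ⟩ := mpt_surjective _ (j ≫ g)
      obtain ⟨χ', hχ'⟩ := mpt_surjective _ (j ≫ h)
      simp only [comp_lift_assoc, MonObj.comp_mul]
      rw [← hχ, ← hχ', ← mpt_mul]
      exact e _ _ χ χ' (j ≫ x)
    intro C _ y χ χ' z
    obtain ⟨g, φ, hy, hg, hz⟩ := gp_pt str I z
    subst hy
    subst hg
    rw [eq_of_heq hz]
    obtain ⟨g1, hg1⟩ := hex χ' _ _ g (hpt g)
    obtain ⟨g2, hg2⟩ := hex χ _ _ g1 hg1
    rw [gpAct_pt str I χ' _ _ g g1 (hpt g) hg1, gpAct_pt str I χ _ _ g1 g2 hg1 hg2]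
    refine gpAct_pt str I (χ * χ') _ _ g g2 (hpt g) (hg2.trans (congrArg (fun ξ => evR ξ _) ?_))
    rw [show resN N (χ * χ') = resN N χ * resN N χ' from MonoidHom.mul_comp _ _ _, _root_.mul_assoc]

set_option maxHeartbeats 2000000 in
set_option synthInstance.maxHeartbeats 200000 in
/-- The affine push-out of the face span, for a thickening of the base. -/
theorem exists_facePO (hst : IsIso str) (Tb : Over S) (t : PB str (Ideal.Quotient.mk I) ≅ Tb) :
    ∃ (P : Over S) (ν₁ : AMonS S F ⟶ P) (ν₂ : AMonS S N ⊗ Tb ⟶ P)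
      (hP : IsPushout (fst (AMonS S F) Tb) (AMonS.faceMap S hF ▷ Tb) ν₁ ν₂)
      (aP : MonAct (AMonS S M) P),
      IsAffine P.left ∧ MonAct.IsEquivariant (subAct S M F) aP ν₁ ∧
      MonAct.IsEquivariant ((subAct S M N).prod (MonAct.trivial (AMonS S M) Tb)) aP ν₂ ∧
      ∀ (X : Over S) (aX : MonAct (AMonS S M) X) (f₁ : AMonS S F ⟶ X) (f₂ : AMonS S N ⊗ Tb ⟶ X)
        (w : fst (AMonS S F) Tb ≫ f₁ = (AMonS.faceMap S hF ▷ Tb) ≫ f₂),
        MonAct.IsEquivariant (subAct S M F) aX f₁ →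
        MonAct.IsEquivariant ((subAct S M N).prod (MonAct.trivial (AMonS S M) Tb)) aX f₂ →
        MonAct.IsEquivariant aP aX (hP.desc f₁ f₂ w) := by
  classical
  let K := gpK N F I
  let φI : A →+* RM N (A ⧸ I) := (uphi N (A ⧸ I)).comp (Ideal.Quotient.mk I)
  let φ00 : A →+* RM F (A ⧸ I) := (uphi F (A ⧸ I)).comp (Ideal.Quotient.mk I)
  let pa := Ideal.Quotient.lift K (qI N I) fun b hb => qI_le I hb
  let pb := Ideal.Quotient.lift K (qF hF) fun b hb => qF_le hF I hb
  let p := evR (extZ hF (uchi F (A ⧸ I))) (uphi F (A ⧸ I))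
  let q := evR (uchi F (A ⧸ I)) φ00
  have hp : p.comp φI = φ00 := by rw [← RingHom.comp_assoc, evR_comp_uphi]
  have hq : q.comp (uphi F A) = φ00 := evR_comp_uphi _ _
  have hpaφ : pa.comp ((Ideal.Quotient.mk K).comp (uphi N A)) = φI := by
    rw [← RingHom.comp_assoc, Ideal.Quotient.lift_comp_mk, qI, evR_comp_uphi]
  have hpbφ : pb.comp ((Ideal.Quotient.mk K).comp (uphi N A)) = uphi F A := by
    rw [← RingHom.comp_assoc, Ideal.Quotient.lift_comp_mk, qF, evR_comp_uphi]
  have hsq : IsPushout (spR str q hq) (spR str p hp) (spR str pb hpbφ) (spR str pa hpaφ) := by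
    refine IsPushout.of_map (Over.forget S) ?_ (gp_sq hF I).isPushout.flip
    rw [spR_comp, spR_comp]
    exact spR_congr str (RingHom.ext fun z => ((gp_sq hF I).comm z).symm) _ _
  -- the corner `A(F)`
  haveI : IsIso (toUnit (Over.mk str)) := by
    haveI : IsIso ((Over.forget S).map (toUnit (Over.mk str))) := by
      have e : (toUnit (Over.mk str)).left = str := by
        have := Over.w (toUnit (Over.mk str))
        simpa using this
      show IsIso (toUnit (Over.mk str)).left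
      rw [e]
      exact hst
    exact isIso_of_reflects_iso _ (Over.forget S)
  let uF : PB str (uphi F A) ⟶ AMonS S F := PtR str (uchi F A) (uphi F A) ≫ fst _ _
  haveI : IsIso (fst (AMonS S F) (Over.mk str)) := by
    refine ⟨lift (𝟙 _) (toUnit _ ≫ inv (toUnit (Over.mk str))), ?_, lift_fst _ _⟩
    rw [comp_lift, Category.comp_id, ← Category.assoc, comp_toUnit]
    have : toUnit (AMonS S F ⊗ Over.mk str) = snd _ _ ≫ toUnit (Over.mk str) := (comp_toUnit _).symm
    rw [this, Category.assoc, IsIso.hom_inv_id, Category.comp_id, lift_fst_snd]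
  haveI : IsIso uF := inferInstanceAs (IsIso (PtR str (uchi F A) (uphi F A) ≫ fst _ _))
  let eZ : PB str φ00 ≅ AMonS S F ⊗ Tb := asIso (ptB str F (Ideal.Quotient.mk I) ≫ (AMonS S F ◁ t.hom))
  let eY : PB str φI ≅ AMonS S N ⊗ Tb := asIso (ptB str N (Ideal.Quotient.mk I) ≫ (AMonS S N ◁ t.hom))
  let ν₁ : AMonS S F ⟶ gpObj (N := N) (F := F) I str := inv uF ≫ spR str pb hpbφ
  let ν₂ : AMonS S N ⊗ Tb ⟶ gpObj (N := N) (F := F) I str := eY.inv ≫ spR str pa hpaφ
  have hP : IsPushout (fst (AMonS S F) Tb) (AMonS.faceMap S hF ▷ Tb) ν₁ ν₂ := by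
    refine hsq.of_iso eZ (asIso uF) eY (Iso.refl _) ?_ ?_ ?_ ?_
    · show spR str q hq ≫ uF = (ptB str F (Ideal.Quotient.mk I) ≫ (AMonS S F ◁ t.hom)) ≫ fst _ _
      rw [Category.assoc, whiskerLeft_fst, ptB, lift_fst, ← Category.assoc, spR_PtR, PtR, lift_fst,
        evR_comp_uchi]
    · show spR str p hp ≫ ptB str N (Ideal.Quotient.mk I) ≫ (AMonS S N ◁ t.hom) =
        (ptB str F (Ideal.Quotient.mk I) ≫ (AMonS S F ◁ t.hom)) ≫ (AMonS.faceMap S hF ▷ Tb)
      rw [Category.assoc, ptB, ptB, lift_whiskerLeft, lift_whiskerLeft_assoc, lift_whiskerRight, comp_lift,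
        spR_mpt, mpt_face, evR_comp_uchi, ← Category.assoc, spR_comp]
      exact congrArg (fun z => lift _ (z ≫ t.hom)) (spR_congr str (evR_comp_uphi _ _) _ _)
    · simp [ν₁]
    · simp [ν₂]
  obtain ⟨aP, haP⟩ := exists_gp_action str (N := N) (F := F) I
  have hν₁ : ∀ (C : Type u) [CommRing C] (ξ : Multiplicative F →* C) (φ : A →+* C)
      (g : RM N A ⧸ K →+* C) (hg : g.comp (Ideal.Quotient.mk _) = evR (extZ hF ξ) φ),
      mpt _ ξ ≫ ν₁ = spR str g (base_eq hg) := by
    intro C _ ξ φ g hg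
    have e : mpt (Spec.map (CommRingCat.ofHom φ) ≫ str) ξ = spR str (evR ξ φ) (evR_comp_uphi ξ φ) ≫ uF := by
      rw [← Category.assoc, spR_PtR, evR_comp_uchi, PtR, lift_fst]
    rw [e, Category.assoc, IsIso.hom_inv_id_assoc, spR_comp]
    refine spR_congr str (Ideal.Quotient.ringHom_ext ?_) _ _
    rw [RingHom.comp_assoc, Ideal.Quotient.lift_comp_mk, hg, qF, comp_evR, comp_extZ, evR_comp_uchi,
      evR_comp_uphi]
  have hν₂ : ∀ (C : Type u) [CommRing C] (ξ : Multiplicative N →* C) (ψ : A ⧸ I →+* C) (φ : A →+* C)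
      (hψ : ψ.comp (Ideal.Quotient.mk I) = φ) (g : RM N A ⧸ K →+* C)
      (hg : g.comp (Ideal.Quotient.mk _) = evR ξ φ),
      lift (mpt _ ξ) (spR str ψ hψ ≫ t.hom) ≫ ν₂ = spR str g (base_eq hg) := by
    intro C _ ξ ψ φ hψ g hg
    have hφ : (evR ξ ψ).comp φI = φ := by rw [← RingHom.comp_assoc, evR_comp_uphi, hψ]
    have e : lift (mpt (Spec.map (CommRingCat.ofHom φ) ≫ str) ξ) (spR str ψ hψ ≫ t.hom) =
        spR str (evR ξ ψ) hφ ≫ eY.hom := by
      show _ = _ ≫ ptB str N (Ideal.Quotient.mk I) ≫ (AMonS S N ◁ t.hom)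
      rw [← Category.assoc, ← pt_ptB str _ ξ ψ φ hψ, lift_whiskerLeft]
    rw [e, Category.assoc, Iso.hom_inv_id_assoc, spR_comp]
    refine spR_congr str (Ideal.Quotient.ringHom_ext ?_) _ _
    rw [RingHom.comp_assoc, Ideal.Quotient.lift_comp_mk, hg, qI, comp_evR, evR_comp_uchi, hφ]
  have hgen : ∀ {C : Type u} [CommRing C] (ξ : Multiplicative N →* C) (φ : A →+* C),
      gpK N F I ≤ RingHom.ker (evR ξ φ) →
      ∃ g : RM N A ⧸ K →+* C, g.comp (Ideal.Quotient.mk _) = evR ξ φ := fun ξ φ h =>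
    ⟨Ideal.Quotient.lift _ _ fun b hb => h hb, RingHom.ext fun _ => rfl⟩
  have hle1 : ∀ {C : Type u} [CommRing C] (ξ : Multiplicative F →* C) (φ : A →+* C),
      gpK N F I ≤ RingHom.ker (evR (extZ hF ξ) φ) := fun ξ φ => (gpK_le_ker_iff I _ _).2 fun n c hn _ => by
    rw [extZ_of_not_mem hF _ n hn, zero_mul]
  have hle2 : ∀ {C : Type u} [CommRing C] (ξ : Multiplicative N →* C) (ψ : A ⧸ I →+* C),
      gpK N F I ≤ RingHom.ker (evR ξ (ψ.comp (Ideal.Quotient.mk I))) := fun ξ ψ =>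
    (gpK_le_ker_iff I _ _).2 fun n c _ hc => by
      rw [RingHom.comp_apply, Ideal.Quotient.eq_zero_iff_mem.2 hc, RingHom.map_zero, mul_zero]
  -- pointwise criterion of equivariance
  have key : ∀ {W : Over S} (aW : MonAct (AMonS S M) W) {T : Over S} (g : T ⟶ AMonS S M) (u v : T ⟶ W),
      (∀ (C : Type u) [CommRing C] (φ : A →+* C) (χ : Multiplicative M →* C) (j : PB str φ ⟶ T),
        j ≫ g = mpt _ χ → j ≫ u = lift (mpt _ χ) (j ≫ v) ≫ aW.act) →
      u = lift g v ≫ aW.act := by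
    intro W aW T g u v h
    apply Over.OverMorphism.ext
    refine T.left.affineCover.hom_ext _ _ fun i => ?_
    let y := T.left.affineCover.f i ≫ T.hom
    obtain ⟨φ, hφ⟩ := Spec.map_surjective (y ≫ inv str)
    let j : PB str φ.hom ⟶ T := Over.homMk (T.left.affineCover.f i) (by
      show y = Spec.map (CommRingCat.ofHom φ.hom) ≫ str
      rw [CommRingCat.ofHom_hom, hφ, Category.assoc, IsIso.inv_hom_id, Category.comp_id])
    suffices e : j ≫ u = j ≫ lift g v ≫ aW.act from congrArg CommaMorphism.left e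
    obtain ⟨χ, hχ⟩ := mpt_surjective _ (j ≫ g)
    rw [h _ φ.hom χ j hχ.symm, comp_lift_assoc, hχ]
  refine ⟨gpObj (N := N) (F := F) I str, ν₁, ν₂, hP, aP, inferInstanceAs (IsAffine (Spec _)), ?_, ?_, ?_⟩
  · refine (MonAct.isEquivariant_iff _ _ _).2 fun T g b => ?_
    simp only [subAct, MonAct.lift_restrict_act_assoc, MonAct.lift_regular_act_assoc]
    refine key aP g _ _ fun C _ φ χ j hj => ?_
    obtain ⟨ξ, hξ⟩ := mpt_surjective _ (j ≫ b)
    obtain ⟨g0, hg0⟩ := hgen _ φ (hle1 ξ φ)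
    obtain ⟨g1, hg1⟩ := hgen _ φ (hle1 (resN F χ * ξ) φ)
    simp only [← Category.assoc, MonObj.comp_mul]
    rw [hj, ← hξ, mpt_map, ← mpt_mul, hν₁ C _ φ g1 hg1, hν₁ C ξ φ g0 hg0, haP]
    exact (gpAct_pt str I χ _ φ g0 g1 hg0 (by rw [hg1, resN_mul_extZ])).symm
  · refine (MonAct.mem_eqvHom_iff ν₂).2 fun T g b s => ?_
    simp only [subAct, MonAct.lift_restrict_act, MonAct.lift_regular_act]
    refine key aP g _ _ fun C _ φ χ j hj => ?_
    obtain ⟨ξ, hξ⟩ := mpt_surjective _ (j ≫ b)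
    obtain ⟨ψ, hψ⟩ := Spec.map_surjective (j ≫ s ≫ t.inv).left
    have hψφ : ψ.hom.comp (Ideal.Quotient.mk I) = φ := by
      have := Over.w (j ≫ s ≫ t.inv)
      rw [← hψ] at this
      change Spec.map ψ ≫ Spec.map _ ≫ str = Spec.map _ ≫ str at this
      rw [← Spec.map_comp_assoc, cancel_mono] at this
      exact congrArg CommRingCat.Hom.hom (Spec.map_injective this)
    have hs : j ≫ s = spR str ψ.hom hψφ ≫ t.hom := by
      rw [show spR str ψ.hom hψφ = j ≫ s ≫ t.inv from Over.OverMorphism.ext hψ]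
      simp
    obtain ⟨g0, hg0⟩ := hgen ξ φ (by rw [← hψφ]; exact hle2 ξ ψ.hom)
    obtain ⟨g1, hg1⟩ := hgen (resN N χ * ξ) φ (by rw [← hψφ]; exact hle2 _ ψ.hom)
    simp only [← Category.assoc, comp_lift, MonObj.comp_mul]
    rw [hj, ← hξ, mpt_map, ← mpt_mul, hs, hν₂ C _ ψ.hom φ hψφ g1 hg1, hν₂ C ξ ψ.hom φ hψφ g0 hg0, haP]
    exact (gpAct_pt str I χ ξ φ g0 g1 hg0 hg1).symm
  · intro X aX f₁ f₂ w hf₁ hf₂
    let d := hP.desc f₁ f₂ w
    let x : (attr aX N).obj (op (PB str (Ideal.Quotient.mk I))) :=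
      ⟨(AMonS S N ◁ t.hom) ≫ f₂, (MonAct.mem_eqvHom_iff _).2 fun T g b s => by
        rw [lift_whiskerLeft_assoc, lift_whiskerLeft_assoc]
        exact (MonAct.mem_eqvHom_iff f₂).1 hf₂ T g b (s ≫ t.hom)⟩
    let y : (attr aX F).obj (op (Over.mk str)) :=
      ⟨fst _ _ ≫ f₁, (MonAct.mem_eqvHom_iff _).2 fun T g b s => by
        rw [lift_fst_assoc, lift_fst_assoc, ← (MonAct.isEquivariant_iff _ _ _).1 hf₁ T g b]
        simp⟩
    refine (MonAct.isEquivariant_iff _ _ _).2 fun T g z => ?_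
    refine key aX g _ _ fun C _ φ χ j hj => ?_
    obtain ⟨gg, φ', hy, hgg, hz⟩ := gp_pt str I (j ≫ z)
    have hφ' : φ = φ' := congrArg CommRingCat.Hom.hom (Spec.map_injective ((cancel_mono str).1 hy))
    subst hφ'
    have hpt : gg.comp (Ideal.Quotient.mk _) =
        evR ((gg.comp (Ideal.Quotient.mk _)).toMonoidHom.comp (uchi N A)) φ := by
      conv_lhs => rw [← RingHom.comp_id (gg.comp (Ideal.Quotient.mk _)), ← evR_self, comp_evR]
      rw [← hgg]
      rfl
    obtain ⟨g', hg'⟩ := hgen _ φ (gpK_stable I χ _ φ (by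
      rw [← hpt]
      intro b hb
      rw [RingHom.mem_ker, RingHom.comp_apply, Ideal.Quotient.eq_zero_iff_mem.2 hb, RingHom.map_zero]))
    have hz' : j ≫ z = spR str gg hgg := eq_of_heq hz
    have e := gp_hx hF I str aX x y d (fun C' _ ξ ψ φ₂ hψ g₂ hg₂ => by
        rw [← hν₂ C' ξ ψ φ₂ hψ g₂ hg₂, Category.assoc, IsPushout.inr_desc]
        exact (lift_whiskerLeft_assoc _ _ _ _).symm)
      (fun C' _ ξ φ₂ g₂ hg₂ => by
        rw [← hν₁ C' ξ φ₂ g₂ hg₂, Category.assoc, IsPushout.inl_desc]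
        exact (lift_fst_assoc _ _ _).symm) C χ _ φ gg g' hpt hg'
    have e2 := gpAct_pt str I χ _ φ gg g' hpt hg'
    simp only [← Category.assoc, comp_lift]
    rw [hj, hz', haP, e2]
    exact e

end Groth.Agent.H15Magnet.Grad
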