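import Groth.Agent.H15Magnet.Grad.Bundle
import Groth.Agent.H15Magnet.CharPt
import Groth.Agent.H15Magnet.Grading
import Groth.Agent.H15Magnet.Weights
import Mathlib.AlgebraicGeometry.ResidueField
import Mathlib.RingTheory.Localization.FractionRing

/-!
# Stable opens and limits along a face
-/

set_option autoImplicit false
set_option linter.unusedSectionVars false
set_option linter.style.haveILetI false
set_option backward.isDefEq.respectTransparency false
set_option backward.isDefEq.respectTransparency.types false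
universe u

open CategoryTheory CategoryTheory.Limits MonoidalCategory CartesianMonoidalCategory MonObj AlgebraicGeometry
  Opposite Magnet
open scoped TensorProduct

noncomputable section

namespace Groth.Agent.H15Magnet.Grad

attribute [local instance] ULift.algebra'
attribute [local instance 100000] rmCommRing rmSemiring rmNonAssoc

/-- An open subscheme stable under an action. -/
abbrev Stable {S : Scheme.{u}} {G X : Over S} [MonObj G] (a : MonAct G X) (U : X.left.Opens) : Prop :=
  (snd G X).left ⁻¹ᵁ U ≤ a.act.left ⁻¹ᵁ U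

theorem Stable.smul_mem {S : Scheme.{u}} {G X : Over S} [MonObj G] {a : MonAct G X} {U : X.left.Opens}
    (hU : Stable a U) {T : Over S} (g : T ⟶ G) (x : T ⟶ X) {t : T.left} (ht : x.left t ∈ U) :
    (lift g x ≫ a.act).left t ∈ U := by
  rw [Over.comp_left, Scheme.Hom.comp_apply]
  refine hU (show (snd G X).left ((lift g x).left t) ∈ U from ?_)
  rw [← Scheme.Hom.comp_apply, ← Over.comp_left, lift_snd]
  exact ht

variable {S : Scheme.{u}} {M : Type} [AddCommGroup M] {X : Over S}

/-- The value of a point at a character. -/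
theorem PtR_left {N : Type} [AddCommMonoid N] {K L : Type u} [CommRing K] [CommRing L]
    (str : Spec (CommRingCat.of K) ⟶ S) (χ : Multiplicative N →* L) (φ : K →+* L) :
    (PtR str χ φ).left = Spec.map (CommRingCat.ofHom (evR χ φ)) ≫ (chart str N).inv := by
  have h := spR_PtR str (φ := uphi N K) (φ' := φ) (evR χ φ) (evR_comp_uphi χ φ) (uchi N K)
  rw [evR_comp_uchi] at h
  rw [← h, Over.comp_left, spR_left, PtR_univ_left]

set_option synthInstance.maxHeartbeats 200000 in
theorem evR_eq_sum {N : Type} [AddCommMonoid N] {K L : Type u} [CommRing K] [CommRing L]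
    (χ : Multiplicative N →* L) (q : K →+* L) (v : RM N K) (s : Finset N) (hs : ∀ m ∉ s, coefAt m v = 0) :
    evR χ q v = ∑ n ∈ s, χ (Multiplicative.ofAdd n) * q (coefAt n v) := by
  classical
  let f : RM N K →+ L := (evR χ q).toAddMonoidHom
  have h : f v = ∑ n ∈ s, f (uchi N K (Multiplicative.ofAdd n) * uphi N K (coefAt n v)) := by
    conv_lhs => rw [eq_sum v s hs]
    exact map_sum f _ _
  refine h.trans (Finset.sum_congr rfl fun n _ => ?_)
  show evR χ q (uchi N K (Multiplicative.ofAdd n) * uphi N K (coefAt n v)) = _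
  rw [RingHom.map_mul, evR_uchi, evR_uphi]

/-- The map of equivariant maps on pairs. -/
theorem smul_attr (a : MonAct (AMonS S M) X) {N : AddSubmonoid M} {T T' : Over S}
    (φ : (attr a N).obj (op T)) (g : T' ⟶ AMonS S M) (b : T' ⟶ AMonS S N) (t : T' ⟶ T) :
    lift g (lift b t ≫ φ.1) ≫ a.act = lift (g ≫ AMonS.map S N.subtype * b) t ≫ φ.1 := by
  have h := (MonAct.mem_eqvHom_iff φ.1).1 φ.2 T' g b t
  simp only [subAct, MonAct.lift_restrict_act, MonAct.lift_regular_act] at h
  exact h.symm

set_option maxHeartbeats 2000000 in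
set_option synthInstance.maxHeartbeats 100000 in
/-- A stable open containing all limits along a face contains the whole orbit closure. -/
theorem mem_of_face_mem [AddGroup.FG M] (a : MonAct (AMonS S M) X) {N F : AddSubmonoid M} (hF : IsFace N F)
    {V : X.left.Opens} (hV : Stable a V) {T : Over S} (φ : (attr a N).obj (op T))
    (h : ∀ z, ((attrFace a hF).app (op T) φ).1.left z ∈ V) : ∀ z, φ.1.left z ∈ V := by
  classical
  intro z
  let K : Type u := (AMonS S N ⊗ T).left.residueField z
  let str : Spec (CommRingCat.of K) ⟶ S := (AMonS S N ⊗ T).left.fromSpecResidueField z ≫ (AMonS S N ⊗ T).hom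
  let j : Over.mk str ⟶ AMonS S N ⊗ T := Over.homMk ((AMonS S N ⊗ T).left.fromSpecResidueField z) rfl
  let pK : Spec (CommRingCat.of K) := IsLocalRing.closedPoint K
  have hj : j.left pK = z := (AMonS S N ⊗ T).left.fromSpecResidueField_apply z pK
  obtain ⟨ξ, hξ⟩ := mpt_surjective str (j ≫ fst _ _)
  let t : Over.mk str ⟶ T := j ≫ snd _ _
  have hjl : j = lift (mpt str ξ) t := by rw [hξ, lift_comp_fst_snd]
  -- pull back to the field
  let φK : AMonS S N ⊗ Over.mk str ⟶ X := (AMonS S N ◁ t) ≫ φ.1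
  let W : (Spec (CommRingCat.of (RM N K))).Opens := ((chart str N).inv ≫ φK.left) ⁻¹ᵁ V
  have hpt : ∀ (L : Type u) [CommRing L] (χ : Multiplicative N →* L) (q : K →+* L),
      PtR str χ q ≫ φK = lift (mpt _ χ) (tpR str q ≫ t) ≫ φ.1 := fun L _ χ q => by
    rw [PtR, lift_whiskerLeft_assoc]
  have hW : ∀ (L : Type u) [CommRing L] (χ : Multiplicative N →* L) (q : K →+* L) (p : Spec (CommRingCat.of L)),
      (PtR str χ q ≫ φK).left p ∈ V ↔ Spec.map (CommRingCat.ofHom (evR χ q)) p ∈ W := fun L _ χ q p => by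
    rw [Over.comp_left, PtR_left, Category.assoc, Scheme.Hom.comp_apply]
    rfl
  -- the limit point
  let ξF : Multiplicative F →* K := ξ.comp (AddMonoidHom.toMultiplicative (AddSubmonoid.inclusion hF.le))
  let ξ0 : Multiplicative N →* K := (charRingHom ξF).toMonoidHom.comp (faceMonoidHom (Z.{u}) hF)
  have hξ0 : ∀ n : N, ξ0 (Multiplicative.ofAdd n) = if (n : M) ∈ F then ξ (Multiplicative.ofAdd n) else 0 := by
    intro n
    show charRingHom ξF (faceMonoidHom (Z.{u}) hF (Multiplicative.ofAdd n)) = _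
    split_ifs with hn
    · rw [faceMonoidHom_apply_of_mem _ hF n hn, charRingHom_single]
      rfl
    · rw [faceMonoidHom_apply_of_not_mem _ hF n hn, map_zero]
  have h0 : Spec.map (CommRingCat.ofHom (evR ξ0 (RingHom.id K))) pK ∈ W := by
    refine (hW K ξ0 _ pK).1 ?_
    rw [hpt]
    have e : lift (mpt _ ξ0) (tpR str (RingHom.id K) ≫ t) ≫ φ.1 =
        lift (mpt _ ξF) (tpR str (RingHom.id K) ≫ t) ≫ ((attrFace a hF).app (op T) φ).1 := by
      rw [attrFace_app_coe, lift_whiskerRight_assoc, mpt_face]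
    rw [e, Over.comp_left, Scheme.Hom.comp_apply]
    exact h _
  let Wp : TopologicalSpace.Opens (PrimeSpectrum (RM N K)) := W
  obtain ⟨_, ⟨hB, hBr, rfl⟩, hmem, hsub⟩ := PrimeSpectrum.isBasis_basic_opens.exists_subset_of_mem_open
    (show _ ∈ (Wp : Set (PrimeSpectrum (RM N K))) from h0) Wp.2
  obtain ⟨hf, rfl⟩ := hBr
  obtain ⟨s, hs⟩ := exists_coef_support hf
  obtain ⟨ψ, hψF, hψs⟩ := exists_degree' hF ((s.image (fun n : N => (n : M))).filter (· ∉ F)) fun x hx => by
    obtain ⟨hx1, hx2⟩ := Finset.mem_filter.1 hx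
    obtain ⟨n, -, rfl⟩ := Finset.mem_image.1 hx1
    exact ⟨n.2, hx2⟩
  have hψ : ∀ n ∈ s, 0 ≤ ψ (n : M) ∧ ((ψ (n : M)).toNat = 0 ↔ (n : M) ∈ F) := fun n hn => by
    by_cases hnF : (n : M) ∈ F
    · rw [hψF _ hnF]
      exact ⟨le_rfl, iff_of_true rfl hnF⟩
    · have := hψs _ (Finset.mem_filter.2 ⟨Finset.mem_image.2 ⟨n, hn, rfl⟩, hnF⟩)
      exact ⟨this.le, iff_of_false (by omega) hnF⟩
  -- the generic translate
  let L : Type u := FractionRing (Polynomial K)
  let iL : Polynomial K →+* L := algebraMap _ _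
  let τ : Lˣ := Units.mk0 (iL Polynomial.X)
    fun e => Polynomial.X_ne_zero (IsFractionRing.to_map_eq_zero_iff.1 e)
  let χ : Multiplicative M →* L :=
    (Units.coeHom L).comp (((zpowersHom Lˣ) τ).comp (AddMonoidHom.toMultiplicative ψ))
  let χi : Multiplicative M →* L :=
    (Units.coeHom L).comp (((zpowersHom Lˣ) τ⁻¹).comp (AddMonoidHom.toMultiplicative ψ))
  have hχi : χi * χ = 1 := MonoidHom.ext fun m => by
    simp [χ, χi, inv_mul_cancel₀ (zpow_ne_zero _ τ.ne_zero)]
  have hχ : ∀ n ∈ s, χ (Multiplicative.ofAdd (n : M)) = iL (Polynomial.X ^ (ψ (n : M)).toNat) := fun n hn => by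
    obtain ⟨k, hk⟩ := Int.eq_ofNat_of_zero_le (hψ n hn).1
    simp [χ, τ, hk]
  let q : K →+* L := iL.comp Polynomial.C
  let ξL : Multiplicative N →* L := q.toMonoidHom.comp ξ
  let χN : Multiplicative N →* L := χ.comp (AddMonoidHom.toMultiplicative N.subtype)
  let c : N → K := fun n => coefAt n hf
  let P : Polynomial K := ∑ n ∈ s, Polynomial.C (ξ (Multiplicative.ofAdd n) * c n) * Polynomial.X ^ (ψ (n : M)).toNat
  have hev : ∀ {L' : Type u} [CommRing L'] (χ' : Multiplicative N →* L') (q' : K →+* L'),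
      evR χ' q' hf = ∑ n ∈ s, χ' (Multiplicative.ofAdd n) * q' (c n) := fun χ' q' => evR_eq_sum χ' q' hf s hs
  have h1 : evR (χN * ξL) q hf = iL P := by
    rw [hev, map_sum]
    refine Finset.sum_congr rfl fun n hn => ?_
    show χ (Multiplicative.ofAdd (n : M)) * q (ξ _) * q (c n) = _
    rw [hχ n hn]
    simp only [q, RingHom.comp_apply, map_mul]
    ring
  have hP0 : P.coeff 0 = evR ξ0 (RingHom.id K) hf := by
    rw [hev, Polynomial.finsetSum_coeff]
    refine Finset.sum_congr rfl fun n hn => ?_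
    rw [Polynomial.coeff_C_mul_X_pow, hξ0, RingHom.id_apply]
    by_cases hnF : (n : M) ∈ F
    · rw [if_pos ((hψ n hn).2.2 hnF).symm, if_pos hnF]
    · rw [if_neg fun e => hnF ((hψ n hn).2.1 e.symm), if_neg hnF, zero_mul]
  have hne : evR (χN * ξL) q hf ≠ 0 := by
    rw [h1]
    intro e
    rw [IsFractionRing.to_map_eq_zero_iff] at e
    rw [e, Polynomial.coeff_zero] at hP0
    exact hmem (show evR ξ0 (RingHom.id K) hf ∈ pK.asIdeal by rw [← hP0]; exact zero_mem _)
  let pL : Spec (CommRingCat.of L) := (⊥ : PrimeSpectrum L)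
  have hmemL : (PtR str (χN * ξL) q ≫ φK).left pL ∈ V := (hW L _ q pL).2 (hsub (fun e => hne e))
  let y := Spec.map (CommRingCat.ofHom q) ≫ str
  have hback : lift (mpt y χi) (PtR str (χN * ξL) q ≫ φK) ≫ a.act = lift (mpt y ξL) (tpR str q ≫ t) ≫ φ.1 := by
    rw [hpt, smul_attr, mpt_map, ← mpt_mul]
    have e1 : χi.comp (AddMonoidHom.toMultiplicative N.subtype) * (χN * ξL) = ξL := by
      rw [← _root_.mul_assoc, ← MonoidHom.mul_comp, hχi, MonoidHom.one_comp, _root_.one_mul]
    rw [e1]
  have he : tpR str q ≫ j = lift (mpt y ξL) (tpR str q ≫ t) := by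
    rw [hjl, comp_lift]
    congr 1
    refine amonS_hom_ext ?_
    rw [mpt_fst, Over.comp_left, Category.assoc, mpt_fst]
    show Spec.map (CommRingCat.ofHom q) ≫ _ = _
    rw [← Spec.map_comp, ← CommRingCat.ofHom_comp, comp_charRingHom]
  have hfin := hV.smul_mem (mpt y χi) _ hmemL
  rw [hback, ← he, Category.assoc, Over.comp_left, Scheme.Hom.comp_apply, Over.comp_left,
    Scheme.Hom.comp_apply] at hfin
  have hp : (tpR str q).left pL = pK := Subsingleton.elim (α := PrimeSpectrum K) _ _
  rwa [hp, hj] at hfin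

end Groth.Agent.H15Magnet.Grad
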