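import Groth.Agent.H15Magnet.Grad.AvgRing
import Groth.Agent.H15Magnet.Grad.Coact
import Groth.Agent.H15Magnet.Grad.Stable
import Groth.Agent.H7Flat.PushoutAffine
import Groth.Prelude.Def_MoreMor

/-!
# Equivariant lifts along square-zero extensions
-/

set_option autoImplicit false
set_option linter.unusedSectionVars false
set_option linter.style.haveILetI false
set_option backward.isDefEq.respectTransparency false
set_option backward.isDefEq.respectTransparency.types false
universe u

open CategoryTheory CategoryTheory.Limits MonoidalCategory CartesianMonoidalCategory MonObj AlgebraicGeometry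
  Opposite Magnet AddMonoidAlgebra

noncomputable section

namespace Groth.Agent.H15Magnet.Grad

attribute [local instance] ULift.algebra'
attribute [local instance 100000] rmCommRing rmSemiring rmNonAssoc

variable {S : Scheme.{u}} {M : Type} [AddCommGroup M] {N : AddSubmonoid M} {A : Type u} [CommRing A]

/-- A character of `M` restricted to `N`. -/
abbrev resN (N : AddSubmonoid M) {C : Type u} [CommRing C] (χ : Multiplicative M →* C) : Multiplicative N →* C :=
  χ.comp (AddMonoidHom.toMultiplicative N.subtype)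

theorem base_eq {C : Type u} [CommRing C] {K : Ideal (RM N A)} {g : RM N A ⧸ K →+* C}
    {ξ : Multiplicative N →* C} {φ : A →+* C} (hg : g.comp (Ideal.Quotient.mk K) = evR ξ φ) :
    g.comp ((Ideal.Quotient.mk K).comp (uphi N A)) = φ := by
  rw [← RingHom.comp_assoc, hg, evR_comp_uphi]

theorem spR_comp' {R B B' B'' : Type u} [CommRing R] [CommRing B] [CommRing B'] [CommRing B'']
    (str : Spec (CommRingCat.of R) ⟶ S) {φ : R →+* B} {φ' : R →+* B'} {φ'' : R →+* B''} {X : Over S}
    (g : B →+* B') (g' : B' →+* B'') (h : g.comp φ = φ') (h' : g'.comp φ' = φ'') {k : B →+* B''}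
    (hk : g'.comp g = k) (hk' : k.comp φ = φ'') (z : PB str φ ⟶ X) :
    spR str g' h' ≫ spR str g h ≫ z = spR str k hk' ≫ z := by
  subst hk
  rw [← Category.assoc, spR_comp]

set_option maxHeartbeats 4000000 in
set_option synthInstance.maxHeartbeats 200000 in
/-- Equivariant lifting along a stable square-zero ideal of `ℤ[N] ⊗ A`. -/
theorem exists_equivariant_lift {X Y : Over S} (aX : MonAct (AMonS S M) X) (aY : MonAct (AMonS S M) Y)
    (f : X ⟶ Y) (hf : MonAct.IsEquivariant aX aY f) (hfs : MoreMor.IsFormallySmoothHom f.left)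
    (str : Spec (CommRingCat.of A) ⟶ S) (y : (attr aY N).obj (op (Over.mk str)))
    (K : Ideal (RM N A)) (hK : K ^ 2 = ⊥)
    (hstab : ∀ (C : Type u) [CommRing C] (χ : Multiplicative M →* C) (ξ : Multiplicative N →* C) (φ : A →+* C),
      K ≤ RingHom.ker (evR ξ φ) → K ≤ RingHom.ker (evR (resN N χ * ξ) φ))
    (xb : PB str ((Ideal.Quotient.mk K).comp (uphi N A)) ⟶ X)
    (hxb : xb ≫ f = spR str (Ideal.Quotient.mk K) rfl ≫ PtR str (uchi N A) (uphi N A) ≫ y.1)
    (hx : ∀ (C : Type u) [CommRing C] (χ : Multiplicative M →* C) (ξ : Multiplicative N →* C) (φ : A →+* C)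
      (g g' : RM N A ⧸ K →+* C) (hg : g.comp (Ideal.Quotient.mk K) = evR ξ φ)
      (hg' : g'.comp (Ideal.Quotient.mk K) = evR (resN N χ * ξ) φ),
      spR str g' (base_eq hg') ≫ xb = lift (mpt _ χ) (spR str g (base_eq hg) ≫ xb) ≫ aX.act) :
    ∃ l : (attr aX N).obj (op (Over.mk str)),
      spR str (Ideal.Quotient.mk K) rfl ≫ PtR str (uchi N A) (uphi N A) ≫ l.1 = xb ∧
      (MonAct.eqvHom.postcomp (subAct S M N) f hf).app _ l = y := by
  classical
  let B : Type u := RM N A
  let u1 : PB str (uphi N A) ⟶ AMonS S N ⊗ Over.mk str := PtR str (uchi N A) (uphi N A)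
  -- a lift
  obtain ⟨l0, hl0, hl0f⟩ := hfs (RM N A) K hK xb.left (u1 ≫ y.1).left
    (congrArg CommaMorphism.left hxb).symm
  let l1 : PB str (uphi N A) ⟶ X := Over.homMk l0 (by
    rw [← Over.w f, ← Category.assoc, hl0f]
    exact Over.w (u1 ≫ y.1))
  have hl1 : spR str (Ideal.Quotient.mk K) rfl ≫ l1 = xb := Over.OverMorphism.ext hl0
  have hl1f : l1 ≫ f = u1 ≫ y.1 := Over.OverMorphism.ext hl0f
  let LP : AMonS S N ⊗ Over.mk str ⟶ X := inv u1 ≫ l1
  have hLP : ∀ {C : Type u} [CommRing C] (ξ : Multiplicative N →* C) (φ : A →+* C),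
      PtR str ξ φ ≫ LP = spR str (evR ξ φ) (evR_comp_uphi ξ φ) ≫ l1 := fun {C} _ ξ φ => by
    have : PtR str ξ φ = spR str (evR ξ φ) (evR_comp_uphi ξ φ) ≫ u1 := by
      rw [spR_PtR, evR_comp_uchi]
    rw [this]
    simp [LP]
  -- the translates of the lift
  let sz : B →+* AddMonoidAlgebra B M := singleZeroRingHom
  let φm : A →+* AddMonoidAlgebra B M := sz.comp (uphi N A)
  let ξm : Multiplicative N →* AddMonoidAlgebra B M := sz.toMonoidHom.comp (uchi N A)
  let χu : Multiplicative M →* AddMonoidAlgebra B M := uM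
  let χi : Multiplicative M →* AddMonoidAlgebra B M :=
    χu.comp (AddMonoidHom.toMultiplicative (-AddMonoidHom.id M))
  have hχi : χi * χu = 1 := MonoidHom.ext fun m => by
    show single (-(m.toAdd)) (1 : B) * single m.toAdd (1 : B) = 1
    rw [single_mul_single, neg_add_cancel, _root_.mul_one]
    rfl
  let Ψ : PB str φm ⟶ X := lift (mpt _ χi) (PtR str (resN N χu * ξm) φm ≫ LP) ≫ aX.act
  have hΨ : ∀ {C : Type u} [CommRing C] {φ' : A →+* C} (G : AddMonoidAlgebra B M →+* C) (hG : G.comp φm = φ'),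
      spR str G hG ≫ Ψ = lift (mpt _ (G.toMonoidHom.comp χi))
        (PtR str (resN N (G.toMonoidHom.comp χu) * G.toMonoidHom.comp ξm) φ' ≫ LP) ≫ aX.act := fun {C} _ φ' G hG => by
    show spR str G hG ≫ lift (mpt _ χi) (PtR str (resN N χu * ξm) φm ≫ LP) ≫ aX.act = _
    rw [comp_lift_assoc, spR_mpt, ← Category.assoc, spR_PtR, MonoidHom.comp_mul]
    rfl
  have hcancel : ∀ {C : Type u} [CommRing C] (h gh : Multiplicative M →* C) (ginv : Multiplicative M →* C)
      (y' : Spec (CommRingCat.of C) ⟶ S) (z : Over.mk y' ⟶ X), h * gh = ginv →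
      lift (mpt y' h) (lift (mpt y' gh) z ≫ aX.act) ≫ aX.act = lift (mpt y' ginv) z ≫ aX.act :=
    fun {C} _ h gh ginv y' z e => by rw [← aX.lift_mul_act, ← mpt_mul, e]
  -- descend to `B + K[M]`
  let φq : A →+* avgRing M K := (avgIncl K).comp (uphi N A)
  have hst0 : ∀ (ξ : Multiplicative N →* AddMonoidAlgebra (B ⧸ K) M) (φ : A →+* AddMonoidAlgebra (B ⧸ K) M),
      evR ξ φ = (singleZeroRingHom : B ⧸ K →+* AddMonoidAlgebra (B ⧸ K) M).comp (Ideal.Quotient.mk K) →
      K ≤ RingHom.ker (evR ξ φ) := fun ξ φ e => by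
    rw [e]
    intro b hb
    rw [RingHom.mem_ker, RingHom.comp_apply, Ideal.Quotient.eq_zero_iff_mem.2 hb, map_zero]
  let p : AddMonoidAlgebra B M →+* AddMonoidAlgebra (B ⧸ K) M := mapRingHom M (Ideal.Quotient.mk K)
  let q : B ⧸ K →+* AddMonoidAlgebra (B ⧸ K) M := singleZeroRingHom
  have hqev : q.comp (Ideal.Quotient.mk K) = evR (p.toMonoidHom.comp ξm) (p.comp φm) := by
    have : q.comp (Ideal.Quotient.mk K) = p.comp sz := RingHom.ext fun b => (mapRingHom_single _ _ _).symm
    rw [this, ← comp_evR]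
    congr 1
    conv_lhs => rw [← RingHom.comp_id sz, ← evR_self, comp_evR]
  have hKev : K ≤ RingHom.ker (evR (resN N (p.toMonoidHom.comp χu) * p.toMonoidHom.comp ξm) (p.comp φm)) :=
    hstab _ _ _ _ (hst0 _ _ hqev.symm)
  let g' : B ⧸ K →+* AddMonoidAlgebra (B ⧸ K) M := Ideal.Quotient.lift K _ fun b hb => hKev hb
  have hg' : g'.comp (Ideal.Quotient.mk K) = evR (resN N (p.toMonoidHom.comp χu) * p.toMonoidHom.comp ξm) (p.comp φm) :=
    RingHom.ext fun b => rfl
  have hpΨ : spR str p rfl ≫ Ψ = spR str q (base_eq hqev) ≫ xb := by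
    rw [hΨ p rfl, hLP, ← spR_comp' str (Ideal.Quotient.mk K) g' rfl (base_eq hg') hg' _ l1, hl1,
      hx _ (p.toMonoidHom.comp χu) _ _ q g' hqev hg', hcancel _ _ 1 _ _ (by
        rw [← MonoidHom.comp_mul, hχi, MonoidHom.comp_one]), mpt_one, ← Hom.one_def, aX.lift_one_act]
  obtain ⟨d0, hd0, hd1⟩ := (avg_sq (M := M) K hK).exists_desc Ψ.left xb.left (congrArg CommaMorphism.left hpΨ)
  have hdhom : d0 ≫ X.hom = Spec.map (CommRingCat.ofHom φq) ≫ str := by
    refine (avg_sq (M := M) K hK).hom_ext ?_ ?_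
    · rw [← Category.assoc, hd0, Over.w Ψ, ← Category.assoc, ← Groth.Agent.H7Flat.sm_comp]
      rfl
    · rw [← Category.assoc, hd1, Over.w xb, ← Category.assoc, ← Groth.Agent.H7Flat.sm_comp]
      refine congrArg (fun g => Groth.Agent.H7Flat.sm g ≫ str) (RingHom.ext fun r => ?_)
      show _ = Ideal.Quotient.mk K (avg0 (M := M) K hK (avgIncl K (uphi N A r)))
      rw [avg0_incl]
      rfl
  let Ψ' : PB str φq ⟶ X := Over.homMk d0 hdhom
  have hsub : (avgRing M K).subtype.comp φq = φm := rfl
  have hpr : (avgPr (M := M) K hK).comp φq = (Ideal.Quotient.mk K).comp (uphi N A) := RingHom.ext fun r => by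
    show Ideal.Quotient.mk K (avg0 (M := M) K hK (avgIncl K (uphi N A r))) = _
    rw [avg0_incl]
    rfl
  have hΨ1 : spR str (avgRing M K).subtype hsub ≫ Ψ' = Ψ := Over.OverMorphism.ext hd0
  have hΨ2 : spR str (avgPr (M := M) K hK) hpr ≫ Ψ' = xb := Over.OverMorphism.ext hd1
  have hc0 : (avg0 (M := M) K hK).comp φq = uphi N A := RingHom.ext fun r => avg0_incl K hK _
  let L0 : PB str (uphi N A) ⟶ X := spR str (avg0 (M := M) K hK) hc0 ≫ Ψ'
  let L : AMonS S N ⊗ Over.mk str ⟶ X := inv u1 ≫ L0
  have hL : ∀ {C : Type u} [CommRing C] (ξ : Multiplicative N →* C) (φ : A →+* C),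
      PtR str ξ φ ≫ L = spR str (evR ξ φ) (evR_comp_uphi ξ φ) ≫ L0 := fun {C} _ ξ φ => by
    have : PtR str ξ φ = spR str (evR ξ φ) (evR_comp_uphi ξ φ) ≫ u1 := by
      rw [spR_PtR, evR_comp_uchi]
    rw [this]
    simp [L]
  -- compatibility with `y`
  have hLf : L ≫ f = y.1 := by
    have hI : spR str (avg0 (M := M) K hK) hc0 ≫ spR str (avgIncl (M := M) K) rfl = 𝟙 _ := by
      apply Over.OverMorphism.ext
      show Spec.map _ ≫ Spec.map _ = 𝟙 _
      rw [← Spec.map_comp, ← CommRingCat.ofHom_comp,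
        show (avg0 (M := M) K hK).comp (avgIncl K) = RingHom.id B from RingHom.ext fun b => avg0_incl K hK b]
      exact Spec.map_id _
    have key : Ψ' ≫ f = spR str (avgIncl (M := M) K) rfl ≫ u1 ≫ y.1 := by
      apply Over.OverMorphism.ext
      refine (avg_sq (M := M) K hK).hom_ext ?_ ?_
      · have e : spR str (avgRing M K).subtype hsub ≫ Ψ' ≫ f =
            spR str (avgRing M K).subtype hsub ≫ spR str (avgIncl (M := M) K) rfl ≫ u1 ≫ y.1 := by
          rw [← Category.assoc, hΨ1, spR_comp' str _ _ _ _ (show (avgRing M K).subtype.comp (avgIncl K) = sz from rfl) rfl]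
          show (lift (mpt _ χi) (PtR str (resN N χu * ξm) φm ≫ LP) ≫ aX.act) ≫ f = _
          have hfl : LP ≫ f = y.1 := by simp [LP, hl1f]
          rw [Category.assoc, (MonAct.isEquivariant_iff aX aY f).1 hf,
            Category.assoc, hfl, PtR, smul_attr, mpt_map, ← mpt_mul]
          have e1 : resN N χi * (resN N χu * ξm) = ξm := by
            rw [← _root_.mul_assoc, ← MonoidHom.mul_comp, hχi, MonoidHom.one_comp, _root_.one_mul]
          rw [e1, ← PtR, ← Category.assoc, spR_PtR]
        exact congrArg CommaMorphism.left e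
      · have e : spR str (avgPr (M := M) K hK) hpr ≫ Ψ' ≫ f =
            spR str (avgPr (M := M) K hK) hpr ≫ spR str (avgIncl (M := M) K) rfl ≫ u1 ≫ y.1 := by
          rw [← Category.assoc, hΨ2, hxb, spR_comp' str _ _ _ _ (k := Ideal.Quotient.mk K)
            (RingHom.ext fun b => congrArg (Ideal.Quotient.mk K) (avg0_incl K hK b)) rfl]
        exact congrArg CommaMorphism.left e
    show (inv u1 ≫ spR str (avg0 (M := M) K hK) hc0 ≫ Ψ') ≫ f = y.1
    rw [Category.assoc, Category.assoc, key, reassoc_of% hI, IsIso.inv_hom_id_assoc]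
  -- equivariance at the universal point
  let B1 : Type u := AddMonoidAlgebra B M
  let s : B →+* B1 := evR (resN N χu * ξm) φm
  let K1 : Ideal B1 := RingHom.ker p
  have hszev : sz = evR ξm φm := by conv_lhs => rw [← RingHom.comp_id sz, ← evR_self, comp_evR]
  have hK1 : K1 ^ 2 = ⊥ := by
    rw [eq_bot_iff, pow_two, Ideal.mul_le]
    intro v hv w hw
    refine Ideal.mem_bot.2 (AddMonoidAlgebra.ext (Finsupp.ext fun m => coeff_mul_eq_zero _ _ m fun i j _ => ?_))
    have hcoe : ∀ (z : B1), z ∈ K1 → ∀ n, z.coeff n ∈ K := fun z hz n => by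
      rw [← Ideal.Quotient.eq_zero_iff_mem, ← coeff_mapRingHom, show mapRingHom M (Ideal.Quotient.mk K) z = 0 from hz]
      rfl
    have := Ideal.mul_mem_mul (hcoe v hv i) (hcoe w hw j)
    rwa [← pow_two, hK, Ideal.mem_bot] at this
  have hsK : K ≤ K1.comap s := fun b hb => by
    show p (evR (resN N χu * ξm) φm b) = 0
    rw [← RingHom.comp_apply, comp_evR, MonoidHom.comp_mul]
    exact hKev hb
  have hzK : K ≤ K1.comap sz := fun b hb => by
    show p (single 0 b) = 0
    rw [show p (single 0 b) = single 0 (Ideal.Quotient.mk K b) from mapRingHom_single _ _ _,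
      Ideal.Quotient.eq_zero_iff_mem.2 hb, single_zero]
  let τ0 : AddMonoidAlgebra B1 M →+* AddMonoidAlgebra B1 M :=
    ev singleZeroRingHom (uM * (singleZeroRingHom : B1 →+* _).toMonoidHom.comp χu)
  have hτ : ∀ v k, (τ0 v).coeff k = v.coeff k * χu (Multiplicative.ofAdd k) := by
    intro v k
    induction v using AddMonoidAlgebra.induction_linear with
    | zero => simp
    | add x y hx hy => simp [map_add, coeff_add, hx, hy, add_mul]
    | single m b =>
      rw [show τ0 (single m b) = single m (b * χu (Multiplicative.ofAdd m)) by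
        rw [ev_single, MonoidHom.mul_apply]
        show single (0 : M) b * (single m (1 : B1) * single (0 : M) (χu (Multiplicative.ofAdd m))) = _
        simp [single_mul_single], coeff_single, coeff_single, Finsupp.single_apply, Finsupp.single_apply]
      split_ifs with h
      · rw [h]
      · rw [zero_mul]
  let τ : avgRing M K1 →+* avgRing M K1 :=
    (τ0.comp (avgRing M K1).subtype).codRestrict _ fun v k hk => by
      show (τ0 v.1).coeff k ∈ K1
      rw [hτ]
      exact Ideal.mul_mem_right _ _ (v.2 k hk)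
  have hτ0 : (avg0 (M := M) K1 hK1).comp τ = avg0 K1 hK1 := RingHom.ext fun v => by
    show (τ0 v.1).coeff 0 = v.1.coeff 0
    rw [hτ, ofAdd_zero, MonoidHom.map_one, _root_.mul_one]
  let φ2 : A →+* avgRing M K1 := (avgIncl K1).comp φm
  let χc : Multiplicative M →* avgRing M K1 := (avgIncl K1).toMonoidHom.comp χu
  have hs0 : s.comp (uphi N A) = φm := evR_comp_uphi _ _
  have hs2 : (avgMap (M := M) K s hsK).comp φq = φ2 := RingHom.ext fun r => Subtype.ext (by
    show mapRingHom M s (single 0 (uphi N A r)) = single 0 (φm r)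
    rw [mapRingHom_single, ← RingHom.comp_apply, hs0])
  have hz2 : (τ.comp (avgMap (M := M) K sz hzK)).comp φq = φ2 := RingHom.ext fun r => Subtype.ext (by
    show τ0 (mapRingHom M sz (single 0 (uphi N A r))) = single 0 (φm r)
    rw [mapRingHom_single, ev_single, ofAdd_zero, MonoidHom.map_one, _root_.mul_one]
    rfl)
  let W1 : PB str φ2 ⟶ X := spR str (avgMap (M := M) K s hsK) hs2 ≫ Ψ'
  let W2 : PB str φ2 ⟶ X :=
    lift (mpt _ χc) (spR str (τ.comp (avgMap (M := M) K sz hzK)) hz2 ≫ Ψ') ≫ aX.act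
  have hW : W1 = W2 := by
    apply Over.OverMorphism.ext
    refine (avg_sq (M := M) K1 hK1).hom_ext ?_ ?_
    · let o : B1 →+* AddMonoidAlgebra B1 M := singleZeroRingHom
      let φt : A →+* AddMonoidAlgebra B1 M := o.comp φm
      have hg1 : (mapRingHom M s).comp φm = φt := RingHom.ext fun r => by
        show mapRingHom M s (single 0 (uphi N A r)) = single 0 (φm r)
        rw [mapRingHom_single, ← RingHom.comp_apply, hs0]
      have hg2 : (τ0.comp (mapRingHom M sz)).comp φm = φt := RingHom.ext fun r => by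
        show τ0 (mapRingHom M sz (single 0 (uphi N A r))) = single 0 (φm r)
        rw [mapRingHom_single, ev_single, ofAdd_zero, MonoidHom.map_one, _root_.mul_one]
        rfl
      have e : spR str (avgRing M K1).subtype (φ' := φt) rfl ≫ W1 =
          spR str (avgRing M K1).subtype (φ' := φt) rfl ≫ W2 := by
        let G1 : AddMonoidAlgebra B M →+* AddMonoidAlgebra B1 M := mapRingHom M s
        let G2 : AddMonoidAlgebra B M →+* AddMonoidAlgebra B1 M := τ0.comp (mapRingHom M sz)
        let hh : Multiplicative M →* AddMonoidAlgebra B1 M := o.toMonoidHom.comp χu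
        have gu1 : G1.toMonoidHom.comp χu = uM := MonoidHom.ext fun m => by
          show mapRingHom M s (single m.toAdd 1) = single m.toAdd 1
          rw [mapRingHom_single, RingHom.map_one]
        have gi1 : G1.toMonoidHom.comp χi =
            uM.comp (AddMonoidHom.toMultiplicative (-AddMonoidHom.id M)) := by
          show (G1.toMonoidHom.comp χu).comp (AddMonoidHom.toMultiplicative (-AddMonoidHom.id M)) = _
          rw [gu1]
        have gu2 : G2.toMonoidHom.comp χu = uM * hh := MonoidHom.ext fun m => by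
          show τ0 (mapRingHom M sz (single m.toAdd 1)) = single m.toAdd 1 * single 0 (χu m)
          rw [mapRingHom_single, RingHom.map_one, ev_single, RingHom.map_one, _root_.one_mul]
          rfl
        have gi2 : G2.toMonoidHom.comp χi =
            (uM * hh).comp (AddMonoidHom.toMultiplicative (-AddMonoidHom.id M)) := by
          show (G2.toMonoidHom.comp χu).comp (AddMonoidHom.toMultiplicative (-AddMonoidHom.id M)) = _
          rw [gu2]
        have gx1 : G1.toMonoidHom.comp ξm = o.toMonoidHom.comp (resN N χu * ξm) := MonoidHom.ext fun n => by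
          show mapRingHom M s (single 0 (uchi N A n)) = single 0 ((resN N χu * ξm) n)
          rw [mapRingHom_single, show s (uchi N A n) = (resN N χu * ξm) n from evR_uchi _ _ n]
        have gx2 : G2.toMonoidHom.comp ξm = o.toMonoidHom.comp ξm := MonoidHom.ext fun n => by
          show τ0 (mapRingHom M sz (single 0 (uchi N A n))) = single 0 (ξm n)
          rw [mapRingHom_single, ev_single, ofAdd_zero, MonoidHom.map_one, _root_.mul_one]
          rfl
        show _ ≫ spR str (avgMap (M := M) K s hsK) hs2 ≫ Ψ' = _ ≫ lift (mpt _ χc) _ ≫ aX.act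
        rw [spR_comp' str _ _ _ _ (show (avgRing M K1).subtype.comp (avgMap K s hsK) = G1.comp (avgRing M K).subtype from rfl)
            (by rw [RingHom.comp_assoc, hsub]; exact hg1),
          ← spR_comp' str (avgRing M K).subtype G1 hsub hg1 rfl, hΨ1, hΨ G1 hg1, comp_lift_assoc, spR_mpt,
          spR_comp' str _ _ _ _ (show (avgRing M K1).subtype.comp (τ.comp (avgMap K sz hzK)) = G2.comp (avgRing M K).subtype from rfl)
            (by rw [RingHom.comp_assoc, hsub]; exact hg2),
          ← spR_comp' str (avgRing M K).subtype G2 hsub hg2 rfl, hΨ1, hΨ G2 hg2]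
        have e2 : resN N (G2.toMonoidHom.comp χu) * G2.toMonoidHom.comp ξm =
            resN N (G1.toMonoidHom.comp χu) * G1.toMonoidHom.comp ξm := by
          rw [gu1, gu2, gx1, gx2]
          refine MonoidHom.ext fun n => ?_
          show uM _ * hh _ * o (ξm n) = uM _ * o (χu _ * ξm n)
          rw [RingHom.map_mul, _root_.mul_assoc]
          rfl
        rw [e2, hcancel _ _ (G1.toMonoidHom.comp χi) _ _ ?_]
        rw [gi1, gi2, MonoidHom.mul_comp]
        have : hh * hh.comp (AddMonoidHom.toMultiplicative (-AddMonoidHom.id M)) = 1 := by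
          show o.toMonoidHom.comp χu * o.toMonoidHom.comp χi = 1
          rw [← MonoidHom.comp_mul, _root_.mul_comm, hχi, MonoidHom.comp_one]
        refine MonoidHom.ext fun m => ?_
        show hh m * (uM _ * hh _) = uM _
        rw [_root_.mul_left_comm]
        exact (congrArg _ (DFunLike.congr_fun this m)).trans (_root_.mul_one _)
      exact congrArg CommaMorphism.left e
    · let mk1 : B1 →+* B1 ⧸ K1 := Ideal.Quotient.mk K1
      let φr : A →+* B1 ⧸ K1 := mk1.comp φm
      have hr : (avgPr (M := M) K1 hK1).comp φ2 = φr := RingHom.ext fun r => by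
        show mk1 (avg0 (M := M) K1 hK1 (avgIncl K1 (φm r))) = _
        rw [avg0_incl]
        rfl
      let gs : B ⧸ K →+* B1 ⧸ K1 := Ideal.Quotient.lift K (mk1.comp s) fun b hb =>
        Ideal.Quotient.eq_zero_iff_mem.2 (hsK hb)
      let gz : B ⧸ K →+* B1 ⧸ K1 := Ideal.Quotient.lift K (mk1.comp sz) fun b hb =>
        Ideal.Quotient.eq_zero_iff_mem.2 (hzK hb)
      have hgs : gs.comp (Ideal.Quotient.mk K) =
          evR (resN N (mk1.toMonoidHom.comp χu) * mk1.toMonoidHom.comp ξm) φr := by
        have : mk1.comp s = evR (resN N (mk1.toMonoidHom.comp χu) * mk1.toMonoidHom.comp ξm) φr := by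
          rw [comp_evR, MonoidHom.comp_mul]
          rfl
        exact this
      have hgz : gz.comp (Ideal.Quotient.mk K) = evR (mk1.toMonoidHom.comp ξm) φr := by
        have : mk1.comp sz = evR (mk1.toMonoidHom.comp ξm) φr := by rw [hszev, comp_evR]
        exact this
      have k1 : (avgPr (M := M) K1 hK1).comp (avgMap K s hsK) = gs.comp (avgPr K hK) :=
        RingHom.ext fun v => congrArg mk1 (RingHom.congr_fun (avg0_map K hK hK1 s hsK) v)
      have k2 : (avgPr (M := M) K1 hK1).comp (τ.comp (avgMap K sz hzK)) = gz.comp (avgPr K hK) :=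
        RingHom.ext fun v => by
          show mk1 ((avg0 (M := M) K1 hK1).comp τ (avgMap K sz hzK v)) = _
          rw [hτ0]
          exact congrArg mk1 (RingHom.congr_fun (avg0_map K hK hK1 sz hzK) v)
      have e : spR str (avgPr (M := M) K1 hK1) hr ≫ W1 = spR str (avgPr (M := M) K1 hK1) hr ≫ W2 := by
        show _ ≫ spR str (avgMap (M := M) K s hsK) hs2 ≫ Ψ' = _ ≫ lift (mpt _ χc) _ ≫ aX.act
        rw [spR_comp' str _ _ _ _ k1 (by rw [RingHom.comp_assoc, hpr]; exact base_eq hgs),
          ← spR_comp' str (avgPr (M := M) K hK) gs hpr (base_eq hgs) rfl, hΨ2, comp_lift_assoc, spR_mpt,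
          spR_comp' str _ _ _ _ k2 (by rw [RingHom.comp_assoc, hpr]; exact base_eq hgz),
          ← spR_comp' str (avgPr (M := M) K hK) gz hpr (base_eq hgz) rfl, hΨ2,
          hx _ (mk1.toMonoidHom.comp χu) _ _ gz gs hgz hgs]
        congr 3
        exact MonoidHom.ext fun m => congrArg mk1 (avg0_incl K1 hK1 _).symm
      exact congrArg CommaMorphism.left e
  have hc2 : (avg0 (M := M) K1 hK1).comp φ2 = φm := RingHom.ext fun r => avg0_incl K1 hK1 _
  have huniv : spR str s hs0 ≫ L0 = lift (mpt _ χu) (spR str sz rfl ≫ L0) ≫ aX.act := by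
    have h1 := congrArg (fun w => spR str (avg0 (M := M) K1 hK1) hc2 ≫ w) hW
    simp only [W1, W2] at h1
    have ks : (avg0 (M := M) K1 hK1).comp (avgMap K s hsK) = s.comp (avg0 K hK) := avg0_map K hK hK1 s hsK
    have kz : (avg0 (M := M) K1 hK1).comp (τ.comp (avgMap K sz hzK)) = sz.comp (avg0 K hK) := by
      rw [← RingHom.comp_assoc, hτ0, avg0_map K hK hK1 sz hzK]
    rw [spR_comp' str _ _ _ _ ks (by rw [RingHom.comp_assoc, hc0, hs0]),
      ← spR_comp' str (avg0 (M := M) K hK) s hc0 hs0 rfl, comp_lift_assoc, spR_mpt,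
      spR_comp' str _ _ _ _ kz (by rw [RingHom.comp_assoc, hc0]),
      ← spR_comp' str (avg0 (M := M) K hK) sz hc0 rfl rfl] at h1
    refine h1.trans ?_
    congr 3
    exact MonoidHom.ext fun m => avg0_incl K1 hK1 _
  have hgen : ∀ (C : Type u) [CommRing C] (χ : Multiplicative M →* C) (ξ : Multiplicative N →* C) (φ : A →+* C),
      PtR str (resN N χ * ξ) φ ≫ L = lift (mpt _ χ) (PtR str ξ φ ≫ L) ≫ aX.act := by
    intro C _ χ ξ φ
    let G : B1 →+* C := ev (evR ξ φ) χ
    have hGs : G.comp sz = evR ξ φ := RingHom.ext fun b => (ev_single _ _ _ _).trans (by simp)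
    have hGu : G.toMonoidHom.comp χu = χ := MonoidHom.ext fun m => by
      show G (single m.toAdd 1) = χ m
      rw [ev_single, RingHom.map_one, _root_.one_mul, ofAdd_toAdd]
    have hGφ : G.comp φm = φ := by rw [← RingHom.comp_assoc, hGs, evR_comp_uphi]
    have hGξ : G.toMonoidHom.comp ξm = ξ := MonoidHom.ext fun n => by
      show (G.comp sz) (uchi N A n) = ξ n
      rw [hGs, evR_uchi]
    have hGs' : G.comp s = evR (resN N χ * ξ) φ := by
      rw [comp_evR, MonoidHom.comp_mul, hGφ, hGξ]
      show evR (resN N (G.toMonoidHom.comp χu) * ξ) φ = _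
      rw [hGu]
    have h1 := congrArg (fun w => spR str G hGφ ≫ w) huniv
    rw [spR_comp' str _ _ _ _ hGs' (evR_comp_uphi _ _), comp_lift_assoc, spR_mpt,
      spR_comp' str _ _ _ _ hGs (evR_comp_uphi _ _), hGu] at h1
    rw [hL, hL]
    exact h1
  have hgen' : ∀ (C : Type u) [CommRing C] (yy : Spec (CommRingCat.of C) ⟶ S) (χ : Multiplicative M →* C)
      (ξ : Multiplicative N →* C) (t' : Over.mk yy ⟶ Over.mk str),
      lift (mpt yy (resN N χ * ξ)) t' ≫ L = lift (mpt yy χ) (lift (mpt yy ξ) t' ≫ L) ≫ aX.act := by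
    intro C _ yy χ ξ t'
    obtain ⟨φ, hyy, ht⟩ := exists_tpR str yy t'
    subst hyy
    rw [eq_of_heq ht]
    exact hgen C χ ξ φ
  refine ⟨⟨L, ?_⟩, ?_, Subtype.ext hLf⟩
  · rw [MonAct.mem_eqvHom_iff]
    intro T' g b t
    simp only [subAct, MonAct.lift_restrict_act, MonAct.lift_regular_act]
    apply Over.OverMorphism.ext
    refine T'.left.affineCover.hom_ext _ _ fun i => ?_
    let yy := T'.left.affineCover.f i ≫ T'.hom
    let j : Over.mk yy ⟶ T' := Over.homMk (T'.left.affineCover.f i) rfl
    suffices h : j ≫ lift (g ≫ AMonS.map S N.subtype * b) t ≫ L = j ≫ lift g (lift b t ≫ L) ≫ aX.act from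
      congrArg CommaMorphism.left h
    simp only [comp_lift_assoc, MonObj.comp_mul]
    rw [← Category.assoc j g]
    obtain ⟨χ, hχ⟩ := mpt_surjective yy (j ≫ g)
    obtain ⟨ξ, hξ⟩ := mpt_surjective yy (j ≫ b)
    rw [← hχ, ← hξ, mpt_map, ← mpt_mul]
    exact hgen' _ yy χ ξ (j ≫ t)
  · show spR str (Ideal.Quotient.mk K) rfl ≫ u1 ≫ L = xb
    simp only [L, IsIso.hom_inv_id_assoc, L0]
    rw [spR_comp' str _ _ _ _ (k := avgPr (M := M) K hK) rfl hpr, hΨ2]

end Groth.Agent.H15Magnet.Grad
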