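import Groth.Agent.H15Magnet.Grad.Lift
import Groth.Agent.S1488

/-!
# Square-zero lifting for attractors of smooth equivariant maps
-/

set_option autoImplicit false
set_option linter.unusedSectionVars false
set_option linter.style.haveILetI false
set_option backward.isDefEq.respectTransparency false
set_option backward.isDefEq.respectTransparency.types false
universe u

open CategoryTheory CategoryTheory.Limits MonoidalCategory CartesianMonoidalCategory MonObj AlgebraicGeometry
  Opposite Magnet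

noncomputable section

namespace Groth.Agent.H15Magnet.Grad

attribute [local instance] ULift.algebra'
attribute [local instance 100000] rmCommRing rmSemiring rmNonAssoc

variable {S : Scheme.{u}} {M : Type} [AddCommGroup M] {N : AddSubmonoid M} {A : Type u} [CommRing A] {I : Ideal A}

/-- The closed point `Spec (A/I) → Spec A` over `S`. -/
abbrev jI (str : Spec (CommRingCat.of A) ⟶ S) (I : Ideal A) :
    PB str (Ideal.Quotient.mk I) ⟶ Over.mk str := tpR str (Ideal.Quotient.mk I)

theorem map_mk_le_ker_iff {C : Type u} [CommRing C] (ξ : Multiplicative N →* C) (φ : A →+* C) :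
    I.map (uphi N A) ≤ RingHom.ker (evR ξ φ) ↔ I ≤ RingHom.ker φ := by
  rw [Ideal.map_le_iff_le_comap, RingHom.comap_ker, evR_comp_uphi]

set_option maxHeartbeats 2000000 in
set_option synthInstance.maxHeartbeats 200000 in
/-- Formal smoothness of attractors of formally smooth maps. -/
theorem exists_lift_postcomp {X Y : Over S} (aX : MonAct (AMonS S M) X) (aY : MonAct (AMonS S M) Y)
    (f : X ⟶ Y) (hf : MonAct.IsEquivariant aX aY f) (hfs : MoreMor.IsFormallySmoothHom f.left)
    (str : Spec (CommRingCat.of A) ⟶ S) (hI : I ^ 2 = ⊥)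
    (x : (attr aX N).obj (op (PB str (Ideal.Quotient.mk I))))
    (y : (attr aY N).obj (op (Over.mk str)))
    (h : x.1 ≫ f = (AMonS S N ◁ jI str I) ≫ y.1) :
    ∃ l : (attr aX N).obj (op (Over.mk str)),
      (AMonS S N ◁ jI str I) ≫ l.1 = x.1 ∧
        (MonAct.eqvHom.postcomp (subAct S M N) f hf).app _ l = y := by
  let K : Ideal (RM N A) := I.map (uphi N A)
  have hK : K ^ 2 = ⊥ := by rw [← Ideal.map_pow, hI, Ideal.map_bot]
  let φbar : A ⧸ I →+* RM N A ⧸ K := Ideal.Quotient.lift I ((Ideal.Quotient.mk K).comp (uphi N A)) fun b hb =>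
    Ideal.Quotient.eq_zero_iff_mem.2 (Ideal.mem_map_of_mem _ hb)
  let ξK : Multiplicative N →* RM N A ⧸ K := (Ideal.Quotient.mk K).toMonoidHom.comp (uchi N A)
  let t : PB str ((Ideal.Quotient.mk K).comp (uphi N A)) ⟶ PB str (Ideal.Quotient.mk I) :=
    spR str φbar (Ideal.Quotient.lift_comp_mk _ _ _)
  let xb : PB str ((Ideal.Quotient.mk K).comp (uphi N A)) ⟶ X := lift (mpt _ ξK) t ≫ x.1
  obtain ⟨l, hl1, hl2⟩ := exists_equivariant_lift aX aY f hf hfs str y K hK
    (fun C _ χ ξ φ hle => (map_mk_le_ker_iff _ _).2 ((map_mk_le_ker_iff ξ φ).1 hle)) xb (by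
      show (lift (mpt _ ξK) t ≫ x.1) ≫ f = _
      rw [Category.assoc, h, lift_whiskerLeft_assoc]
      show lift (mpt _ ξK) (t ≫ tpR str (Ideal.Quotient.mk I)) ≫ y.1 = _
      rw [spR_tpR, ← Category.assoc, spR_PtR]
      rfl) (fun C _ χ ξ φ g g' hg hg' => by
      have hgξ : g.toMonoidHom.comp ξK = ξ := MonoidHom.ext fun n => by
        show (g.comp (Ideal.Quotient.mk K)) (uchi N A n) = ξ n
        rw [hg, evR_uchi]
      have hgξ' : g'.toMonoidHom.comp ξK = resN N χ * ξ := MonoidHom.ext fun n => by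
        show (g'.comp (Ideal.Quotient.mk K)) (uchi N A n) = _
        rw [hg', evR_uchi]
      have hb : (g.comp φbar).comp (Ideal.Quotient.mk I) = φ := by
        rw [RingHom.comp_assoc, Ideal.Quotient.lift_comp_mk]
        exact base_eq hg
      have ht : g'.comp φbar = g.comp φbar := Ideal.Quotient.ringHom_ext (by
        rw [RingHom.comp_assoc, RingHom.comp_assoc]
        exact (base_eq hg').trans (base_eq hg).symm)
      let u : PB str φ ⟶ PB str (Ideal.Quotient.mk I) := spR str (g.comp φbar) hb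
      have hu : spR str g (base_eq hg) ≫ t = u := spR_comp str _ _ _ _
      have hu' : spR str g' (base_eq hg') ≫ t = u := (spR_comp str _ _ _ _).trans (spR_congr str ht _ _)
      have e1 : spR str g (base_eq hg) ≫ xb = lift (mpt _ ξ) u ≫ x.1 := by
        show _ ≫ lift (mpt _ ξK) t ≫ x.1 = _
        rw [← Category.assoc, comp_lift, hu, spR_mpt, hgξ]
      have e2 : spR str g' (base_eq hg') ≫ xb = lift (mpt _ (resN N χ * ξ)) u ≫ x.1 := by
        show _ ≫ lift (mpt _ ξK) t ≫ x.1 = _
        rw [← Category.assoc, comp_lift, hu', spR_mpt, hgξ']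
      refine e2.trans (Eq.trans ?_ (congrArg (fun z => lift (mpt _ χ) z ≫ aX.act) e1).symm)
      refine Eq.trans ?_ (smul_attr aX x (mpt _ χ) (mpt _ ξ) u).symm
      exact congrArg (fun z => lift z u ≫ x.1) (by rw [mpt_map, ← mpt_mul]))
  refine ⟨l, tensor_ext fun C _ yy χ t' => ?_, hl2⟩
  obtain ⟨ψ, hψ⟩ := Spec.map_surjective t'.left
  have hyy : yy = Spec.map (CommRingCat.ofHom (ψ.hom.comp (Ideal.Quotient.mk I))) ≫ str := by
    rw [CommRingCat.ofHom_comp, Spec.map_comp, Category.assoc, CommRingCat.ofHom_hom, hψ]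
    exact (Over.w t').symm
  subst hyy
  let φ : A →+* C := ψ.hom.comp (Ideal.Quotient.mk I)
  have hle : K ≤ RingHom.ker (evR χ φ) := (map_mk_le_ker_iff χ φ).2 fun b hb => by
    show ψ.hom (Ideal.Quotient.mk I b) = 0
    rw [Ideal.Quotient.eq_zero_iff_mem.2 hb, map_zero]
  let g : RM N A ⧸ K →+* C := Ideal.Quotient.lift K _ fun b hb => hle hb
  have hg : g.comp (Ideal.Quotient.mk K) = evR χ φ := RingHom.ext fun _ => rfl
  have ht' : t' = spR str g (base_eq hg) ≫ t := by
    apply Over.OverMorphism.ext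
    show t'.left = Spec.map _ ≫ Spec.map _
    rw [← hψ, ← Spec.map_comp, ← CommRingCat.ofHom_comp]
    congr 1
    refine CommRingCat.hom_ext (Ideal.Quotient.ringHom_ext ?_)
    exact (base_eq hg).symm
  rw [lift_whiskerLeft_assoc, show t' ≫ jI str I = tpR str φ by
    rw [ht', Category.assoc]; show _ ≫ _ ≫ tpR str (Ideal.Quotient.mk I) = _; rw [spR_tpR, spR_tpR]]
  have h2 := congrArg (fun w => spR str g (base_eq hg) ≫ w) hl1
  rw [spR_comp' str _ _ _ _ hg (evR_comp_uphi χ φ), ← Category.assoc, spR_PtR, evR_comp_uchi,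
    comp_lift_assoc, spR_mpt] at h2
  refine h2.trans ?_
  rw [ht']
  congr 3
  refine MonoidHom.ext fun n => ?_
  exact evR_uchi χ φ n

end Groth.Agent.H15Magnet.Grad
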