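import Groth.Agent.H15Magnet.Grad.LiftApp

/-!
# The push-out of `A(F) × T'` and `A(N) × T` along `A(F) × T`
-/

set_option autoImplicit false
set_option linter.unusedSectionVars false
set_option linter.style.haveILetI false
set_option backward.isDefEq.respectTransparency false
set_option backward.isDefEq.respectTransparency.types false
universe u

open CategoryTheory CategoryTheory.Limits MonoidalCategory CartesianMonoidalCategory MonObj AlgebraicGeometry
  Opposite Magnet AddMonoidAlgebra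
open Groth.Agent.H7Flat (RingSq)

noncomputable section

namespace Groth.Agent.H15Magnet.Grad

attribute [local instance] ULift.algebra'
attribute [local instance 100000] rmCommRing rmSemiring rmNonAssoc

theorem ringSq_mapRingHom {M : Type} [AddCommGroup M] {R A' B A : Type u} [CommRing R] [CommRing A'] [CommRing B]
    [CommRing A] {pa : R →+* A'} {pb : R →+* B} {p : A' →+* A} {q : B →+* A} (h : RingSq pa pb p q) :
    RingSq (mapRingHom M pa) (mapRingHom M pb) (mapRingHom M p) (mapRingHom M q) := by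
  classical
  refine ⟨fun z => AddMonoidAlgebra.ext (Finsupp.ext fun m => ?_), fun w => ?_, fun z z' h1 h2 => ?_, fun x y hxy => ?_⟩
  · simp only [coeff_mapRingHom]
    exact h.comm _
  · induction w using AddMonoidAlgebra.induction_linear with
    | zero => exact ⟨0, map_zero _⟩
    | add x y hx hy =>
      obtain ⟨x, rfl⟩ := hx
      obtain ⟨y, rfl⟩ := hy
      exact ⟨x + y, map_add _ _ _⟩
    | single m b =>
      obtain ⟨b, rfl⟩ := h.surj b
      exact ⟨single m b, mapRingHom_single _ _ _⟩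
  · refine AddMonoidAlgebra.ext (Finsupp.ext fun m => h.ext _ _ ?_ ?_)
    · rw [← coeff_mapRingHom, ← coeff_mapRingHom, h1]
    · rw [← coeff_mapRingHom, ← coeff_mapRingHom, h2]
  · have hm : ∀ m, p (x.coeff m) = q (y.coeff m) := fun m => by
      rw [← coeff_mapRingHom, ← coeff_mapRingHom, hxy]
    choose z hz1 hz2 using fun m => h.exists_lift _ _ (hm m)
    let s := x.coeff.support ∪ y.coeff.support
    have hc : ∀ m, (∑ n ∈ s, single n (z n)).coeff m = if m ∈ s then z m else 0 := fun m => by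
      simp only [AddMonoidAlgebra.coeff_sum, coeff_single, Finsupp.coe_finsetSum, Finset.sum_apply,
        Finsupp.single_apply, Finset.sum_ite_eq']
    refine ⟨∑ n ∈ s, single n (z n), AddMonoidAlgebra.ext (Finsupp.ext fun m => ?_),
      AddMonoidAlgebra.ext (Finsupp.ext fun m => ?_)⟩ <;>
      rw [coeff_mapRingHom, hc] <;> split_ifs with hms
    · exact hz1 m
    · rw [map_zero]
      exact (Finsupp.notMem_support_iff.1 fun hh => hms (Finset.mem_union_left _ hh)).symm
    · exact hz2 m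
    · rw [map_zero]
      exact (Finsupp.notMem_support_iff.1 fun hh => hms (Finset.mem_union_right _ hh)).symm

variable {M : Type} [AddCommGroup M] {N F : AddSubmonoid M} (hF : IsFace N F) {A : Type u} [CommRing A]
  (I : Ideal A)

/-- The extension by zero of a character of the face. -/
def extZ {C : Type u} [CommRing C] (ξ : Multiplicative F →* C) : Multiplicative N →* C :=
  (charRingHom ξ).toMonoidHom.comp (faceMonoidHom (Z.{u}) hF)

theorem extZ_of_mem {C : Type u} [CommRing C] (ξ : Multiplicative F →* C) (n : N) (h : (n : M) ∈ F) :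
    extZ hF ξ (Multiplicative.ofAdd n) = ξ (Multiplicative.ofAdd ⟨n, h⟩) := by
  show charRingHom ξ (faceMonoidHom (Z.{u}) hF (Multiplicative.ofAdd n)) = _
  rw [faceMonoidHom_apply_of_mem _ hF n h, charRingHom_single]

theorem extZ_of_not_mem {C : Type u} [CommRing C] (ξ : Multiplicative F →* C) (n : N) (h : (n : M) ∉ F) :
    extZ hF ξ (Multiplicative.ofAdd n) = 0 := by
  show charRingHom ξ (faceMonoidHom (Z.{u}) hF (Multiplicative.ofAdd n)) = _
  rw [faceMonoidHom_apply_of_not_mem _ hF n h, RingHom.map_zero]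

theorem comp_extZ {C C' : Type u} [CommRing C] [CommRing C'] (g : C →+* C') (ξ : Multiplicative F →* C) :
    g.toMonoidHom.comp (extZ hF ξ) = extZ hF (g.toMonoidHom.comp ξ) := by
  refine MonoidHom.ext fun n => ?_
  obtain ⟨n, rfl⟩ := Multiplicative.ofAdd.surjective n
  show g (extZ hF ξ (Multiplicative.ofAdd n)) = _
  by_cases h : (n : M) ∈ F
  · rw [extZ_of_mem hF _ n h, extZ_of_mem hF _ n h]
    rfl
  · rw [extZ_of_not_mem hF _ n h, extZ_of_not_mem hF _ n h, RingHom.map_zero]

theorem resN_mul_extZ {C : Type u} [CommRing C] (χ : Multiplicative M →* C) (ξ : Multiplicative F →* C) :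
    resN N χ * extZ hF ξ = extZ hF (resN F χ * ξ) := by
  refine MonoidHom.ext fun n => ?_
  obtain ⟨n, rfl⟩ := Multiplicative.ofAdd.surjective n
  rw [MonoidHom.mul_apply]
  by_cases h : (n : M) ∈ F
  · rw [extZ_of_mem hF _ n h, extZ_of_mem hF _ n h]
    rfl
  · rw [extZ_of_not_mem hF _ n h, extZ_of_not_mem hF _ n h, mul_zero]

omit hF in
theorem rm_map_sum {N' : Type} [AddCommMonoid N'] {R C : Type u} [CommRing R] [CommRing C] (g : RM N' R →+* C)
    {κ : Type*} (s : Finset κ) (f : κ → RM N' R) : g (∑ n ∈ s, f n) = ∑ n ∈ s, g (f n) := by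
  let g' : RM N' R →+ C := g.toAddMonoidHom
  exact map_sum g' f s

variable (N F) in
/-- The elements of `I·ℤ[N] ⊗ A` supported outside the face. -/
def gpK : Ideal (RM N A) :=
  Ideal.span {v | ∃ (n : N) (c : A), (n : M) ∉ F ∧ c ∈ I ∧ v = uchi N A (Multiplicative.ofAdd n) * uphi N A c}

theorem gpK_le_ker_iff {C : Type u} [CommRing C] (ξ : Multiplicative N →* C) (φ : A →+* C) :
    gpK N F I ≤ RingHom.ker (evR ξ φ) ↔
      ∀ (n : N) (c : A), (n : M) ∉ F → c ∈ I → ξ (Multiplicative.ofAdd n) * φ c = 0 := by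
  rw [gpK, Ideal.span_le]
  constructor
  · intro h n c hn hc
    have h1 : evR ξ φ (uchi N A (Multiplicative.ofAdd n) * uphi N A c) = 0 := h ⟨n, c, hn, hc, rfl⟩
    rwa [RingHom.map_mul, evR_uchi, evR_uphi] at h1
  · rintro h _ ⟨n, c, hn, hc, rfl⟩
    show evR ξ φ (uchi N A (Multiplicative.ofAdd n) * uphi N A c) = 0
    rw [RingHom.map_mul, evR_uchi, evR_uphi]
    exact h n c hn hc

theorem gpK_stable {C : Type u} [CommRing C] (χ : Multiplicative M →* C) (ξ : Multiplicative N →* C)
    (φ : A →+* C) (h : gpK N F I ≤ RingHom.ker (evR ξ φ)) : gpK N F I ≤ RingHom.ker (evR (resN N χ * ξ) φ) :=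
  (gpK_le_ker_iff I _ _).2 fun n c hn hc => by
    rw [MonoidHom.mul_apply, _root_.mul_assoc, (gpK_le_ker_iff I ξ φ).1 h n c hn hc, mul_zero]

variable {I} in
theorem gpK_sq (hI : I ^ 2 = ⊥) : gpK N F I ^ 2 = ⊥ := by
  refine le_bot_iff.1 ((Ideal.pow_right_mono (?_ : gpK N F I ≤ I.map (uphi N A)) 2).trans ?_)
  · rw [gpK, Ideal.span_le]
    rintro _ ⟨n, c, -, hc, rfl⟩
    exact Ideal.mul_mem_left _ _ (Ideal.mem_map_of_mem _ hc)
  · rw [← Ideal.map_pow, hI, Ideal.map_bot]

variable (N) in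
/-- Reduction modulo `I`. -/
def qI : RM N A →+* RM N (A ⧸ I) := evR (uchi N (A ⧸ I)) ((uphi N (A ⧸ I)).comp (Ideal.Quotient.mk I))

/-- Projection to the face. -/
def qF : RM N A →+* RM F A := evR (extZ hF (uchi F A)) (uphi F A)

theorem qI_le : gpK N F I ≤ RingHom.ker (qI N I) :=
  (gpK_le_ker_iff I _ _).2 fun n c _ hc => by
    rw [RingHom.comp_apply, Ideal.Quotient.eq_zero_iff_mem.2 hc, RingHom.map_zero, mul_zero]

theorem qF_le : gpK N F I ≤ RingHom.ker (qF hF (A := A)) :=
  (gpK_le_ker_iff I _ _).2 fun n c hn _ => by rw [extZ_of_not_mem hF _ n hn, zero_mul]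

set_option maxHeartbeats 1000000 in
set_option synthInstance.maxHeartbeats 200000 in
theorem gp_sq : RingSq (Ideal.Quotient.lift (gpK N F I) (qI N I) fun b hb => qI_le I hb)
    (Ideal.Quotient.lift (gpK N F I) (qF hF) fun b hb => qF_le hF I hb)
    (evR (extZ hF (uchi F (A ⧸ I))) (uphi F (A ⧸ I)))
    (evR (uchi F (A ⧸ I)) ((uphi F (A ⧸ I)).comp (Ideal.Quotient.mk I))) := by
  classical
  let iF : RM F A →+* RM N A :=
    evR ((uchi N A).comp (AddMonoidHom.toMultiplicative (AddSubmonoid.inclusion hF.le))) (uphi N A)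
  have hcomm : (evR (extZ hF (uchi F (A ⧸ I))) (uphi F (A ⧸ I))).comp (qI N I) =
      (evR (uchi F (A ⧸ I)) ((uphi F (A ⧸ I)).comp (Ideal.Quotient.mk I))).comp (qF hF) := by
    rw [qI, qF, comp_evR, comp_evR, comp_extZ, evR_comp_uchi, evR_comp_uphi, evR_comp_uchi,
      ← RingHom.comp_assoc, evR_comp_uphi]
  have hFi : (qF hF (A := A)).comp iF = RingHom.id _ := by
    refine rm_ext (fun f => ?_) (fun r => ?_)
    · obtain ⟨f, rfl⟩ := Multiplicative.ofAdd.surjective f
      show qF hF (iF _) = _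
      rw [evR_uchi]
      show qF hF (uchi N A (Multiplicative.ofAdd (AddSubmonoid.inclusion hF.le f))) = _
      rw [qF, evR_uchi, extZ_of_mem hF _ (AddSubmonoid.inclusion hF.le f) f.2]
      rfl
    · show qF hF (iF _) = _
      rw [evR_uphi, qF, evR_uphi]
      rfl
  have hIc : ∀ v n, coefAt n (qI N I v) = Ideal.Quotient.mk I (coefAt n v) := fun v n => by
    obtain ⟨s, hs⟩ := exists_coef_support v
    rw [qI, evR_eq_sum _ _ v s hs]
    simp only [RingHom.comp_apply]
    rw [coef_sum]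
    split_ifs with h
    · rfl
    · rw [hs n h, RingHom.map_zero]
  refine ⟨fun z => ?_, fun w => ?_, fun z z' h1 h2 => ?_, fun x y hxy => ?_⟩
  · obtain ⟨z, rfl⟩ := Ideal.Quotient.mk_surjective z
    exact RingHom.congr_fun hcomm z
  · obtain ⟨s, hs⟩ := exists_coef_support w
    let inc := AddSubmonoid.inclusion hF.le
    refine ⟨∑ n ∈ s, uchi N (A ⧸ I) (Multiplicative.ofAdd (inc n)) * uphi N (A ⧸ I) (coefAt n w), ?_⟩
    conv_rhs => rw [eq_sum w s hs]
    rw [rm_map_sum]
    refine Finset.sum_congr rfl fun n _ => ?_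
    rw [RingHom.map_mul, evR_uchi, evR_uphi, extZ_of_mem hF _ (inc n) n.2]
    rfl
  · obtain ⟨z, rfl⟩ := Ideal.Quotient.mk_surjective z
    obtain ⟨z', rfl⟩ := Ideal.Quotient.mk_surjective z'
    rw [Ideal.Quotient.eq]
    have h1' : qI N I (z - z') = 0 := by rw [RingHom.map_sub]; exact sub_eq_zero.2 h1
    have h2' : qF hF (z - z') = 0 := by rw [RingHom.map_sub]; exact sub_eq_zero.2 h2
    generalize z - z' = v at h1' h2' ⊢
    obtain ⟨s, hs⟩ := exists_coef_support v
    have hI' : ∀ n, coefAt n v ∈ I := fun n => by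
      rw [← Ideal.Quotient.eq_zero_iff_mem, ← hIc, h1', LinearMap.map_zero]
    let t : Finset F := (s.filter fun n : N => (n : M) ∈ F).attach.image fun k => (⟨(k.1 : M), ((Finset.mem_filter (s := s)).1 k.2).2⟩ : F)
    have hF0 : ∀ n : N, (n : M) ∈ F → coefAt n v = 0 := by
      intro n hn
      by_cases hns : n ∈ s
      · have e : qF hF v = ∑ f ∈ t, uchi F A (Multiplicative.ofAdd f) *
            uphi F A (coefAt (AddSubmonoid.inclusion hF.le f) v) := by
          rw [qF, evR_eq_sum _ _ v s hs,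
            ← Finset.sum_filter_of_ne (p := fun n : N => (n : M) ∈ F) fun n _ hne => by
              by_contra hh
              exact hne (by rw [extZ_of_not_mem hF _ n hh, zero_mul]),
            ← Finset.sum_attach, Finset.sum_image]
          · refine Finset.sum_congr rfl fun k _ => ?_
            rw [extZ_of_mem hF _ k.1 (Finset.mem_filter.1 k.2).2]
            rfl
          · intro k _ k' _ hkk
            exact Subtype.ext (Subtype.ext (congrArg (Subtype.val : F → M) hkk))
        have hmem : (⟨n, hn⟩ : F) ∈ t :=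
          Finset.mem_image.2 ⟨⟨n, Finset.mem_filter.2 ⟨hns, hn⟩⟩, Finset.mem_attach _ _, rfl⟩
        have h3 := congrArg (coefAt (⟨n, hn⟩ : F)) e
        rw [coef_sum, if_pos hmem, h2', LinearMap.map_zero] at h3
        exact h3.symm
      · exact hs n hns
    rw [eq_sum v s hs]
    refine sum_mem fun n _ => ?_
    by_cases hn : (n : M) ∈ F
    · rw [hF0 n hn, RingHom.map_zero, mul_zero]
      exact zero_mem _
    · exact Ideal.subset_span ⟨n, _, hn, hI' n, rfl⟩
  · obtain ⟨s, hs⟩ := exists_coef_support x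
    choose c hc using fun n => Ideal.Quotient.mk_surjective (I := I) (coefAt n x)
    let z0 : RM N A := ∑ n ∈ s, uchi N A (Multiplicative.ofAdd n) * uphi N A (c n)
    have hz0 : qI N I z0 = x := by
      conv_rhs => rw [eq_sum x s hs]
      rw [rm_map_sum]
      refine Finset.sum_congr rfl fun n _ => ?_
      rw [RingHom.map_mul, qI, evR_uchi, evR_uphi, RingHom.comp_apply, hc]
    let qq := evR (uchi F (A ⧸ I)) ((uphi F (A ⧸ I)).comp (Ideal.Quotient.mk I))
    have hdiff : qq (y - qF hF z0) = 0 := by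
      rw [RingHom.map_sub]
      refine sub_eq_zero.2 (hxy.symm.trans ?_)
      rw [← hz0]
      exact RingHom.congr_fun hcomm z0
    refine ⟨Ideal.Quotient.mk _ (z0 + iF (y - qF hF z0)), ?_, ?_⟩
    · show qI N I _ = x
      have hnat : (qI N I).comp iF =
          (evR ((uchi N (A ⧸ I)).comp (AddMonoidHom.toMultiplicative (AddSubmonoid.inclusion hF.le)))
            (uphi N (A ⧸ I))).comp qq := by
        refine rm_ext (fun f => ?_) (fun r => ?_)
        · simp only [RingHom.comp_apply, qq, iF, qI, evR_uchi, MonoidHom.comp_apply]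
        · simp only [RingHom.comp_apply, qq, iF, qI, evR_uphi]
      rw [RingHom.map_add, hz0, show qI N I (iF (y - qF hF z0)) = _ from RingHom.congr_fun hnat _,
        RingHom.comp_apply, hdiff, RingHom.map_zero, add_zero]
    · show qF hF _ = y
      rw [RingHom.map_add, show qF hF (iF (y - qF hF z0)) = y - qF hF z0 from RingHom.congr_fun hFi _,
        add_sub_cancel]

variable {S : Scheme.{u}} (str : Spec (CommRingCat.of A) ⟶ S)

/-- The push-out. -/
abbrev gpObj : Over S := PB str ((Ideal.Quotient.mk (gpK N F I)).comp (uphi N A))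

set_option maxHeartbeats 2000000 in
set_option synthInstance.maxHeartbeats 200000 in
/-- A point of the push-out which is given by the two pieces is equivariant. -/
theorem gp_hx {X : Over S} (a : MonAct (AMonS S M) X)
    (x : (attr a N).obj (op (PB str (Ideal.Quotient.mk I)))) (y : (attr a F).obj (op (Over.mk str)))
    (xb : gpObj (N := N) (F := F) I str ⟶ X)
    (hA : ∀ (C : Type u) [CommRing C] (ξ : Multiplicative N →* C) (ψ : A ⧸ I →+* C) (φ : A →+* C)
          (hψ : ψ.comp (Ideal.Quotient.mk I) = φ) (g : RM N A ⧸ gpK N F I →+* C)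
          (hg : g.comp (Ideal.Quotient.mk _) = evR ξ φ),
        spR str g (base_eq hg) ≫ xb = lift (mpt _ ξ) (spR str ψ hψ) ≫ x.1)
    (hB : ∀ (C : Type u) [CommRing C] (ξ : Multiplicative F →* C) (φ : A →+* C) (g : RM N A ⧸ gpK N F I →+* C)
          (hg : g.comp (Ideal.Quotient.mk _) = evR (extZ hF ξ) φ),
        spR str g (base_eq hg) ≫ xb = PtR str ξ φ ≫ y.1)
    (C : Type u) [CommRing C] (χ : Multiplicative M →* C) (ξ : Multiplicative N →* C) (φ : A →+* C)
    (g g' : RM N A ⧸ gpK N F I →+* C) (hg : g.comp (Ideal.Quotient.mk _) = evR ξ φ)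
    (hg' : g'.comp (Ideal.Quotient.mk _) = evR (resN N χ * ξ) φ) :
    spR str g' (base_eq hg') ≫ xb = lift (mpt _ χ) (spR str g (base_eq hg) ≫ xb) ≫ a.act := by
  classical
  let K := gpK N F I
  let pa := Ideal.Quotient.lift K (qI N I) fun b hb => qI_le I hb
  let pb := Ideal.Quotient.lift K (qF hF) fun b hb => qF_le hF I hb
  let φI : A →+* RM N (A ⧸ I) := (uphi N (A ⧸ I)).comp (Ideal.Quotient.mk I)
  have hpaφ : pa.comp ((Ideal.Quotient.mk K).comp (uphi N A)) = φI := by
    rw [← RingHom.comp_assoc, Ideal.Quotient.lift_comp_mk, qI, evR_comp_uphi]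
  have hpbφ : pb.comp ((Ideal.Quotient.mk K).comp (uphi N A)) = uphi F A := by
    rw [← RingHom.comp_assoc, Ideal.Quotient.lift_comp_mk, qF, evR_comp_uphi]
  -- universal case
  let B := RM N A ⧸ K
  let C1 : Type u := AddMonoidAlgebra B M
  let sz : B →+* C1 := singleZeroRingHom
  let χu : Multiplicative M →* C1 := uM
  let ξ1 : Multiplicative N →* C1 := (sz.comp (Ideal.Quotient.mk K)).toMonoidHom.comp (uchi N A)
  let φ1 : A →+* C1 := (sz.comp (Ideal.Quotient.mk K)).comp (uphi N A)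
  have hsz : sz.comp (Ideal.Quotient.mk K) = evR ξ1 φ1 := by
    conv_lhs => rw [← RingHom.comp_id (sz.comp (Ideal.Quotient.mk K)), ← evR_self, comp_evR]
  have hK1 : K ≤ RingHom.ker (evR (resN N χu * ξ1) φ1) := gpK_stable I χu ξ1 φ1 (by
    intro b hb
    show evR ξ1 φ1 b = 0
    rw [← hsz, RingHom.comp_apply, Ideal.Quotient.eq_zero_iff_mem.2 hb, RingHom.map_zero])
  let s : B →+* C1 := Ideal.Quotient.lift K _ fun b hb => hK1 hb
  have hs : s.comp (Ideal.Quotient.mk K) = evR (resN N χu * ξ1) φ1 := RingHom.ext fun _ => rfl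
  have huniv : spR str s (base_eq hs) ≫ xb = lift (mpt _ χu) (spR str sz (base_eq hsz) ≫ xb) ≫ a.act := by
    apply Over.OverMorphism.ext
    refine (ringSq_mapRingHom (M := M) (gp_sq hF I)).hom_ext ?_ ?_
    · let G : C1 →+* AddMonoidAlgebra (RM N (A ⧸ I)) M := mapRingHom M pa
      let o : RM N (A ⧸ I) →+* AddMonoidAlgebra (RM N (A ⧸ I)) M := singleZeroRingHom
      let φ2 := G.comp φ1
      let ξ2 := G.toMonoidHom.comp ξ1
      let χ2 := G.toMonoidHom.comp χu
      have hψ : (o.comp (uphi N (A ⧸ I))).comp (Ideal.Quotient.mk I) = φ2 := RingHom.ext fun r => by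
        show o (φI r) = G (sz (Ideal.Quotient.mk K (uphi N A r)))
        rw [show G (sz (Ideal.Quotient.mk K (uphi N A r))) = o (pa (Ideal.Quotient.mk K (uphi N A r))) from
          mapRingHom_single _ _ _]
        exact congrArg o (RingHom.congr_fun hpaφ r).symm
      have hgz : (G.comp sz).comp (Ideal.Quotient.mk K) = evR ξ2 φ2 := by rw [RingHom.comp_assoc, hsz, comp_evR]
      have hgs : (G.comp s).comp (Ideal.Quotient.mk K) = evR (resN N χ2 * ξ2) φ2 := by
        rw [RingHom.comp_assoc, hs, comp_evR, MonoidHom.comp_mul]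
        rfl
      let t2 : PB str φ2 ⟶ PB str (Ideal.Quotient.mk I) := spR str (o.comp (uphi N (A ⧸ I))) hψ
      let LHS : PB str φ2 ⟶ X := spR str G (rfl : G.comp φ1 = φ2) ≫ spR str s (base_eq hs) ≫ xb
      let RHS : PB str φ2 ⟶ X :=
        spR str G (rfl : G.comp φ1 = φ2) ≫ lift (mpt _ χu) (spR str sz (base_eq hsz) ≫ xb) ≫ a.act
      have eL : LHS = lift (mpt _ (resN N χ2 * ξ2)) t2 ≫ x.1 :=
        (spR_comp' str s G (base_eq hs) rfl rfl (base_eq hgs) xb).trans (hA _ _ _ φ2 hψ _ hgs)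
      have eZ : spR str G (rfl : G.comp φ1 = φ2) ≫ spR str sz (base_eq hsz) ≫ xb = lift (mpt _ ξ2) t2 ≫ x.1 :=
        (spR_comp' str sz G (base_eq hsz) rfl rfl (base_eq hgz) xb).trans (hA _ _ _ φ2 hψ _ hgz)
      have eR : RHS = lift (mpt _ χ2) (lift (mpt _ ξ2) t2 ≫ x.1) ≫ a.act := by
        show spR str G _ ≫ lift (mpt _ χu) (spR str sz (base_eq hsz) ≫ xb) ≫ a.act = _
        rw [← Category.assoc, comp_lift, spR_mpt, eZ]
      have eM : lift (mpt _ χ2) (lift (mpt _ ξ2) t2 ≫ x.1) ≫ a.act = lift (mpt _ (resN N χ2 * ξ2)) t2 ≫ x.1 :=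
        (smul_attr a x (mpt _ χ2) (mpt _ ξ2) t2).trans
          (congrArg (fun z => lift z t2 ≫ x.1) (by rw [mpt_map, ← mpt_mul]))
      have e : LHS = RHS := eL.trans (eR.trans eM).symm
      exact congrArg CommaMorphism.left e
    · let G : C1 →+* AddMonoidAlgebra (RM F A) M := mapRingHom M pb
      let o : RM F A →+* AddMonoidAlgebra (RM F A) M := singleZeroRingHom
      let φ2 := G.comp φ1
      let χ2 := G.toMonoidHom.comp χu
      let η2 : Multiplicative F →* AddMonoidAlgebra (RM F A) M := o.toMonoidHom.comp (uchi F A)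
      have hξ : G.toMonoidHom.comp ξ1 = extZ hF η2 := by
        rw [← comp_extZ]
        refine MonoidHom.ext fun n => ?_
        show G (sz (Ideal.Quotient.mk K (uchi N A n))) = o (extZ hF (uchi F A) n)
        rw [show G (sz (Ideal.Quotient.mk K (uchi N A n))) = o (pb (Ideal.Quotient.mk K (uchi N A n))) from
          mapRingHom_single _ _ _]
        exact congrArg o (evR_uchi _ _ n)
      have hgz : (G.comp sz).comp (Ideal.Quotient.mk K) = evR (extZ hF η2) φ2 := by
        rw [RingHom.comp_assoc, hsz, comp_evR, hξ]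
      have hgs : (G.comp s).comp (Ideal.Quotient.mk K) = evR (extZ hF (resN F χ2 * η2)) φ2 := by
        rw [RingHom.comp_assoc, hs, comp_evR, MonoidHom.comp_mul, hξ, ← resN_mul_extZ]
        rfl
      let LHS : PB str φ2 ⟶ X := spR str G (rfl : G.comp φ1 = φ2) ≫ spR str s (base_eq hs) ≫ xb
      let RHS : PB str φ2 ⟶ X :=
        spR str G (rfl : G.comp φ1 = φ2) ≫ lift (mpt _ χu) (spR str sz (base_eq hsz) ≫ xb) ≫ a.act
      have eL : LHS = lift (mpt _ (resN F χ2 * η2)) (tpR str φ2) ≫ y.1 :=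
        (spR_comp' str s G (base_eq hs) rfl rfl (base_eq hgs) xb).trans (hB _ _ φ2 _ hgs)
      have eZ : spR str G (rfl : G.comp φ1 = φ2) ≫ spR str sz (base_eq hsz) ≫ xb =
          lift (mpt _ η2) (tpR str φ2) ≫ y.1 :=
        (spR_comp' str sz G (base_eq hsz) rfl rfl (base_eq hgz) xb).trans (hB _ _ φ2 _ hgz)
      have eR : RHS = lift (mpt _ χ2) (lift (mpt _ η2) (tpR str φ2) ≫ y.1) ≫ a.act := by
        show spR str G _ ≫ lift (mpt _ χu) (spR str sz (base_eq hsz) ≫ xb) ≫ a.act = _
        rw [← Category.assoc, comp_lift, spR_mpt, eZ]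
      have eM : lift (mpt _ χ2) (lift (mpt _ η2) (tpR str φ2) ≫ y.1) ≫ a.act =
          lift (mpt _ (resN F χ2 * η2)) (tpR str φ2) ≫ y.1 :=
        (smul_attr a y (mpt _ χ2) (mpt _ η2) (tpR str φ2)).trans
          (congrArg (fun z => lift z (tpR str φ2) ≫ y.1) (by rw [mpt_map, ← mpt_mul]))
      have e : LHS = RHS := eL.trans (eR.trans eM).symm
      exact congrArg CommaMorphism.left e
  -- specialise
  let G : C1 →+* C := ev g χ
  have hGz : G.comp sz = g := RingHom.ext fun b => (ev_single _ _ _ _).trans (by simp)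
  have hGu : G.toMonoidHom.comp χu = χ := MonoidHom.ext fun m => by
    show G (single m.toAdd 1) = χ m
    rw [ev_single, RingHom.map_one, _root_.one_mul, ofAdd_toAdd]
  have hGφ : G.comp φ1 = φ := by
    rw [← RingHom.comp_assoc, ← RingHom.comp_assoc, hGz]
    exact base_eq hg
  have hGξ : G.toMonoidHom.comp ξ1 = ξ := MonoidHom.ext fun n => by
    show (G.comp sz) (Ideal.Quotient.mk K (uchi N A n)) = ξ n
    rw [hGz]
    exact (RingHom.congr_fun hg _).trans (evR_uchi ξ φ n)
  have hGs : G.comp s = g' := Ideal.Quotient.ringHom_ext (by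
    rw [RingHom.comp_assoc, hs, hg', comp_evR, MonoidHom.comp_mul, hGξ, hGφ]
    show evR (resN N (G.toMonoidHom.comp χu) * ξ) φ = _
    rw [hGu])
  have h1 := congrArg (fun w => spR str G hGφ ≫ w) huniv
  rw [spR_comp' str _ _ _ _ hGs (base_eq hg'), comp_lift_assoc, spR_mpt,
    spR_comp' str _ _ _ _ hGz (base_eq hg), hGu] at h1
  exact h1


set_option maxHeartbeats 2000000 in
set_option synthInstance.maxHeartbeats 200000 in
/-- Compatible points of two attractors define an equivariant point of the push-out. -/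
theorem exists_gp_desc {X : Over S} (a : MonAct (AMonS S M) X)
    (x : (attr a N).obj (op (PB str (Ideal.Quotient.mk I)))) (y : (attr a F).obj (op (Over.mk str)))
    (h : (AMonS.faceMap S hF ▷ PB str (Ideal.Quotient.mk I)) ≫ x.1 = (AMonS S F ◁ jI str I) ≫ y.1) :
    ∃ xb : gpObj (N := N) (F := F) I str ⟶ X,
      (∀ (C : Type u) [CommRing C] (ξ : Multiplicative N →* C) (ψ : A ⧸ I →+* C) (φ : A →+* C)
          (hψ : ψ.comp (Ideal.Quotient.mk I) = φ) (g : RM N A ⧸ gpK N F I →+* C)
          (hg : g.comp (Ideal.Quotient.mk _) = evR ξ φ),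
        spR str g (base_eq hg) ≫ xb = lift (mpt _ ξ) (spR str ψ hψ) ≫ x.1) ∧
      (∀ (C : Type u) [CommRing C] (ξ : Multiplicative F →* C) (φ : A →+* C) (g : RM N A ⧸ gpK N F I →+* C)
          (hg : g.comp (Ideal.Quotient.mk _) = evR (extZ hF ξ) φ),
        spR str g (base_eq hg) ≫ xb = PtR str ξ φ ≫ y.1) ∧
      (∀ (C : Type u) [CommRing C] (χ : Multiplicative M →* C) (ξ : Multiplicative N →* C) (φ : A →+* C)
          (g g' : RM N A ⧸ gpK N F I →+* C) (hg : g.comp (Ideal.Quotient.mk _) = evR ξ φ)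
          (hg' : g'.comp (Ideal.Quotient.mk _) = evR (resN N χ * ξ) φ),
        spR str g' (base_eq hg') ≫ xb = lift (mpt _ χ) (spR str g (base_eq hg) ≫ xb) ≫ a.act) := by
  classical
  let K := gpK N F I
  let pa := Ideal.Quotient.lift K (qI N I) fun b hb => qI_le I hb
  let pb := Ideal.Quotient.lift K (qF hF) fun b hb => qF_le hF I hb
  let φI : A →+* RM N (A ⧸ I) := (uphi N (A ⧸ I)).comp (Ideal.Quotient.mk I)
  let φ00 : A →+* RM F (A ⧸ I) := (uphi F (A ⧸ I)).comp (Ideal.Quotient.mk I)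
  let xI : PB str φI ⟶ X := lift (mpt _ (uchi N (A ⧸ I))) (spR str (uphi N (A ⧸ I)) rfl) ≫ x.1
  let yF : PB str (uphi F A) ⟶ X := PtR str (uchi F A) (uphi F A) ≫ y.1
  let p := evR (extZ hF (uchi F (A ⧸ I))) (uphi F (A ⧸ I))
  let q := evR (uchi F (A ⧸ I)) φ00
  have hp : p.comp φI = φ00 := by rw [← RingHom.comp_assoc, evR_comp_uphi]
  have hagree : spR str p hp ≫ xI = spR str q (evR_comp_uphi _ _) ≫ yF := by
    show _ ≫ lift _ _ ≫ x.1 = _ ≫ PtR str _ _ ≫ y.1
    rw [comp_lift_assoc, spR_mpt, ← Category.assoc, spR_PtR, evR_comp_uchi, evR_comp_uchi, spR_comp]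
    have h' := congrArg (fun w => lift (mpt _ (uchi F (A ⧸ I))) (spR str (uphi F (A ⧸ I)) rfl) ≫ w) h
    simp only [lift_whiskerRight_assoc, lift_whiskerLeft_assoc, mpt_face] at h'
    rw [spR_congr str (evR_comp_uphi (extZ hF (uchi F (A ⧸ I))) (uphi F (A ⧸ I))) _ rfl]
    refine h'.trans ?_
    rw [show spR str (uphi F (A ⧸ I)) (φ := Ideal.Quotient.mk I) rfl ≫ jI str I = tpR str φ00 from spR_tpR str _ _]
    rfl
  obtain ⟨d0, hd0, hd1⟩ := (gp_sq hF I).exists_desc xI.left yF.left (congrArg CommaMorphism.left hagree)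
  have hpaφ : pa.comp ((Ideal.Quotient.mk K).comp (uphi N A)) = φI := by
    rw [← RingHom.comp_assoc, Ideal.Quotient.lift_comp_mk, qI, evR_comp_uphi]
  have hpbφ : pb.comp ((Ideal.Quotient.mk K).comp (uphi N A)) = uphi F A := by
    rw [← RingHom.comp_assoc, Ideal.Quotient.lift_comp_mk, qF, evR_comp_uphi]
  have hdhom : d0 ≫ X.hom = Spec.map (CommRingCat.ofHom ((Ideal.Quotient.mk K).comp (uphi N A))) ≫ str := by
    refine (gp_sq hF I).hom_ext ?_ ?_
    · rw [← Category.assoc, hd0, Over.w xI, ← Category.assoc, ← Groth.Agent.H7Flat.sm_comp]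
      exact congrArg (fun g => Groth.Agent.H7Flat.sm g ≫ str) hpaφ.symm
    · rw [← Category.assoc, hd1, Over.w yF, ← Category.assoc, ← Groth.Agent.H7Flat.sm_comp]
      exact congrArg (fun g => Groth.Agent.H7Flat.sm g ≫ str) hpbφ.symm
  let xb : gpObj (N := N) (F := F) I str ⟶ X := Over.homMk d0 hdhom
  have hxa : spR str pa hpaφ ≫ xb = xI := Over.OverMorphism.ext hd0
  have hxf : spR str pb hpbφ ≫ xb = yF := Over.OverMorphism.ext hd1
  have hA : ∀ (C : Type u) [CommRing C] (ξ : Multiplicative N →* C) (ψ : A ⧸ I →+* C) (φ : A →+* C)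
      (hψ : ψ.comp (Ideal.Quotient.mk I) = φ) (g : RM N A ⧸ K →+* C)
      (hg : g.comp (Ideal.Quotient.mk _) = evR ξ φ),
      spR str g (base_eq hg) ≫ xb = lift (mpt _ ξ) (spR str ψ hψ) ≫ x.1 := by
    intro C _ ξ ψ φ hψ g hg
    have hφ : (evR ξ ψ).comp φI = φ := by rw [← RingHom.comp_assoc, evR_comp_uphi, hψ]
    have hfac : (evR ξ ψ).comp pa = g := Ideal.Quotient.ringHom_ext (by
      rw [RingHom.comp_assoc, Ideal.Quotient.lift_comp_mk, hg, qI, comp_evR, evR_comp_uchi, hφ])
    rw [← spR_comp' str pa (evR ξ ψ) hpaφ hφ hfac, hxa]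
    show _ ≫ lift _ _ ≫ x.1 = _
    rw [comp_lift_assoc, spR_mpt, evR_comp_uchi, spR_comp]
    exact congrArg (fun w => lift _ w ≫ x.1) (spR_congr str (evR_comp_uphi ξ ψ) _ _)
  have hB : ∀ (C : Type u) [CommRing C] (ξ : Multiplicative F →* C) (φ : A →+* C) (g : RM N A ⧸ K →+* C)
      (hg : g.comp (Ideal.Quotient.mk _) = evR (extZ hF ξ) φ),
      spR str g (base_eq hg) ≫ xb = PtR str ξ φ ≫ y.1 := by
    intro C _ ξ φ g hg
    have hfac : (evR ξ φ).comp pb = g := Ideal.Quotient.ringHom_ext (by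
      rw [RingHom.comp_assoc, Ideal.Quotient.lift_comp_mk, hg, qF, comp_evR, comp_extZ, evR_comp_uchi,
        evR_comp_uphi])
    rw [← spR_comp' str pb (evR ξ φ) hpbφ (evR_comp_uphi _ _) hfac, hxf]
    show _ ≫ PtR str _ _ ≫ y.1 = _
    rw [← Category.assoc, spR_PtR, evR_comp_uchi]
  exact ⟨xb, hA, hB, fun C _ χ ξ φ g g' hg hg' => gp_hx hF I str a x y xb hA hB C χ ξ φ g g' hg hg'⟩

end Groth.Agent.H15Magnet.Grad
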