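import Groth.Prelude.Def_Magnet4
import Groth.Agent.H7Lim.LFPCriterion

/-!
# Equivariant homs out of products commute with limits of affine schemes

For a cofiltered system of affine `S`-schemes `T i` with limit `T`, morphisms `W ×_S T ⟶ X` over `Y`
(with `W` affine over `S` and `X ⟶ Y` locally of finite presentation) come from a stage, uniquely at
later stages.  Consequently equivariant-hom functors of locally finitely presented equivariant maps
are relatively limit preserving, and representing morphisms are locally of finite presentation.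
-/

set_option autoImplicit false
set_option linter.unusedSectionVars false
set_option linter.style.haveILetI false
set_option backward.isDefEq.respectTransparency false
set_option backward.isDefEq.respectTransparency.types false
universe u

open CategoryTheory CategoryTheory.Limits MonoidalCategory CartesianMonoidalCategory AlgebraicGeometry Opposite Magnet

noncomputable section

namespace Groth.Agent.H15Magnet.Grad

variable {S : Scheme.{u}} {J : Type u} [Preorder J] [IsDirected J (· ≤ ·)] [Nonempty J]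
  {D : Jᵒᵖ ⥤ Over S}

theorem isAffineHom_amonS (S : Scheme.{u}) (M : Type) [AddCommMonoid M] : IsAffineHom (AMonS S M).hom := by
  have : IsAffineHom (AMon (ULift.{u} ℤ) M).hom := by
    haveI : IsAffine (AMon (ULift.{u} ℤ) M).left := inferInstanceAs (IsAffine (Spec _))
    exact isAffineHom_of_isAffine _
  exact MorphismProperty.pullback_snd (P := @IsAffineHom) (AMon (ULift.{u} ℤ) M).hom _ this

theorem isAffineHom_tensor (W T : Over S) [IsAffineHom W.hom] [IsAffineHom T.hom] : IsAffineHom (W ⊗ T).hom := by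
  rw [Over.tensorObj_hom]
  haveI : IsAffineHom (pullback.fst W.hom T.hom) := MorphismProperty.pullback_fst _ _ ‹_›
  infer_instance

theorem isAffine_tensor (W T : Over S) [IsAffineHom W.hom] [IsAffine T.left] : IsAffine (W ⊗ T).left := by
  show IsAffine (pullback W.hom T.hom)
  haveI : IsAffineHom (pullback.snd W.hom T.hom) := MorphismProperty.pullback_snd _ _ ‹_›
  exact isAffine_of_isAffineHom (pullback.snd W.hom T.hom)

/-- The cone `W × T ⟶ W × T i`. -/
def sysCone (W : Over S) (c : Cone D) : Cone (D ⋙ tensorLeft W ⋙ Over.forget S) :=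
  (tensorLeft W ⋙ Over.forget S).mapCone c

/-- The product with `W` of a limit of schemes over `S` is a limit. -/
theorem nonempty_isLimit_sysCone (W : Over S) {c : Cone D} (hc : IsLimit ((Over.forget S).mapCone c)) :
    Nonempty (IsLimit (sysCone W c)) := by
  let j₀ : Jᵒᵖ := op (Classical.arbitrary J)
  let sndCone : Cone (D ⋙ tensorLeft W ⋙ Over.forget S) → Cone (D ⋙ Over.forget S) := fun s =>
    { pt := s.pt
      π :=
        { app := fun i => s.π.app i ≫ (snd W (D.obj i)).left
          naturality := fun i k a => by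
            have := s.w a
            simp only [Functor.const_obj_obj, Functor.const_obj_map, Category.id_comp, Functor.comp_map] at this ⊢
            rw [← this, Category.assoc, Category.assoc]
            congr 1
            exact congrArg CommaMorphism.left (whiskerLeft_snd W (D.map a)) } }
  have hfst : ∀ (s : Cone (D ⋙ tensorLeft W ⋙ Over.forget S)) (i k : Jᵒᵖ),
      s.π.app i ≫ (fst W (D.obj i)).left = s.π.app k ≫ (fst W (D.obj k)).left := by
    intro s i k
    have h : ∀ {i k : Jᵒᵖ} (a : i ⟶ k), s.π.app i ≫ (fst W (D.obj i)).left = s.π.app k ≫ (fst W (D.obj k)).left := by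
      intro i k a
      rw [← s.w a, Category.assoc]
      congr 1
      exact (congrArg CommaMorphism.left (whiskerLeft_fst W (D.map a))).symm
    exact (h (IsCofiltered.minToLeft i k)).symm.trans (h (IsCofiltered.minToRight i k))
  let L : (s : Cone (D ⋙ tensorLeft W ⋙ Over.forget S)) → (s.pt ⟶ (W ⊗ c.pt).left) := fun s =>
    pullback.lift (s.π.app j₀ ≫ (fst W (D.obj j₀)).left) (hc.lift (sndCone s)) (by
      have e : hc.lift (sndCone s) ≫ (c.π.app j₀).left = s.π.app j₀ ≫ (snd W (D.obj j₀)).left :=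
        hc.fac (sndCone s) j₀
      rw [Category.assoc, show (fst W (D.obj j₀)).left ≫ W.hom = (snd W (D.obj j₀)).left ≫ (D.obj j₀).hom from
        pullback.condition, ← Category.assoc, ← e, Category.assoc, Over.w]
      rfl)
  refine ⟨⟨L, ?_, ?_⟩⟩
  · intro s i
    refine pullback.hom_ext ?_ ?_
    · show (L s ≫ (W ◁ c.π.app i).left) ≫ pullback.fst _ _ = s.π.app i ≫ (fst W (D.obj i)).left
      rw [Category.assoc, Over.whiskerLeft_left_fst]
      exact (pullback.lift_fst _ _ _).trans (hfst s j₀ i)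
    · show (L s ≫ (W ◁ c.π.app i).left) ≫ pullback.snd _ _ = s.π.app i ≫ (snd W (D.obj i)).left
      rw [Category.assoc, Over.whiskerLeft_left_snd]
      exact (pullback.lift_snd_assoc _ _ _ _).trans (hc.fac (sndCone s) i)
  · intro s m hm
    refine pullback.hom_ext ?_ ?_
    · rw [pullback.lift_fst, ← hm j₀]
      show _ = (m ≫ (W ◁ c.π.app j₀).left) ≫ pullback.fst _ _
      rw [Category.assoc, Over.whiskerLeft_left_fst]
      rfl
    · rw [pullback.lift_snd]
      refine hc.hom_ext fun i => ?_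
      rw [hc.fac]
      show _ = s.π.app i ≫ (snd W (D.obj i)).left
      rw [← hm i]
      show (m ≫ pullback.snd _ _) ≫ (c.π.app i).left = (m ≫ (W ◁ c.π.app i).left) ≫ pullback.snd _ _
      simp only [Category.assoc, Over.whiskerLeft_left_snd]
      rfl

variable {W X Y : Over S} [IsAffineHom W.hom] (f : X ⟶ Y) {c : Cone D}

/-- Morphisms from `W × T` over `Y` come from a stage. -/
theorem sys_exists [LocallyOfFinitePresentation f.left] (hc : IsLimit ((Over.forget S).mapCone c))
    (haff : ∀ i, IsAffine (D.obj i).left) (y : ∀ i, W ⊗ D.obj i ⟶ Y)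
    (hy : ∀ {i k : Jᵒᵖ} (a : i ⟶ k), (W ◁ D.map a) ≫ y k = y i)
    (x : W ⊗ c.pt ⟶ X) (hx : ∀ i, x ≫ f = (W ◁ c.π.app i) ≫ y i) :
    ∃ (i : Jᵒᵖ) (xi : W ⊗ D.obj i ⟶ X), xi ≫ f = y i ∧ (W ◁ c.π.app i) ≫ xi = x := by
  obtain ⟨hl⟩ := nonempty_isLimit_sysCone W hc
  let t : D ⋙ tensorLeft W ⋙ Over.forget S ⟶ (Functor.const Jᵒᵖ).obj Y.left :=
    { app := fun i => (y i).left
      naturality := fun i k a => by
        show (W ◁ D.map a).left ≫ (y k).left = (y i).left ≫ 𝟙 _
        rw [Category.comp_id, ← Over.comp_left, hy a] }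
  haveI hA : ∀ i, IsAffine ((D ⋙ tensorLeft W ⋙ Over.forget S).obj i) := fun i => by
    haveI := haff i
    exact isAffine_tensor W (D.obj i)
  haveI : ∀ {i k : Jᵒᵖ} (a : i ⟶ k), IsAffineHom ((D ⋙ tensorLeft W ⋙ Over.forget S).map a) := fun a =>
    isAffineHom_of_isAffine _
  obtain ⟨i, g, hg₁, hg₂⟩ := Scheme.exists_π_app_comp_eq_of_locallyOfFinitePresentation
    (D ⋙ tensorLeft W ⋙ Over.forget S) t f.left (sysCone W c) hl x.left (by
      ext i
      exact (congrArg CommaMorphism.left (hx i)).symm)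
  refine ⟨i, Over.homMk g ?_, Over.OverMorphism.ext hg₂, Over.OverMorphism.ext hg₁⟩
  rw [← Over.w f, ← Category.assoc]
  refine (congrArg (· ≫ Y.hom) hg₂).trans ?_
  exact Over.w (y i)

/-- Two morphisms from a stage that agree on the limit agree at a later stage. -/
theorem sys_eq [LocallyOfFiniteType f.left] (hc : IsLimit ((Over.forget S).mapCone c))
    (haff : ∀ i, IsAffine (D.obj i).left) (y : ∀ i, W ⊗ D.obj i ⟶ Y)
    (hy : ∀ {i k : Jᵒᵖ} (a : i ⟶ k), (W ◁ D.map a) ≫ y k = y i)
    {i : Jᵒᵖ} (a b : W ⊗ D.obj i ⟶ X) (ha : a ≫ f = y i) (hb : b ≫ f = y i)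
    (hab : (W ◁ c.π.app i) ≫ a = (W ◁ c.π.app i) ≫ b) :
    ∃ (k : Jᵒᵖ) (m : k ⟶ i), (W ◁ D.map m) ≫ a = (W ◁ D.map m) ≫ b := by
  obtain ⟨hl⟩ := nonempty_isLimit_sysCone W hc
  let t : D ⋙ tensorLeft W ⋙ Over.forget S ⟶ (Functor.const Jᵒᵖ).obj Y.left :=
    { app := fun i => (y i).left
      naturality := fun i k m => by
        show (W ◁ D.map m).left ≫ (y k).left = (y i).left ≫ 𝟙 _
        rw [Category.comp_id, ← Over.comp_left, hy m] }
  haveI hA : ∀ i, IsAffine ((D ⋙ tensorLeft W ⋙ Over.forget S).obj i) := fun i => by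
    haveI := haff i
    exact isAffine_tensor W (D.obj i)
  haveI : ∀ {i k : Jᵒᵖ} (m : i ⟶ k), IsAffineHom ((D ⋙ tensorLeft W ⋙ Over.forget S).map m) := fun m =>
    isAffineHom_of_isAffine _
  obtain ⟨k, m, hm⟩ := Scheme.exists_hom_comp_eq_comp_of_locallyOfFiniteType
    (D ⋙ tensorLeft W ⋙ Over.forget S) t f.left (sysCone W c) hl a.left b.left
    (congrArg CommaMorphism.left ha).symm (congrArg CommaMorphism.left hb).symm
    (congrArg CommaMorphism.left hab)
  exact ⟨k, m, Over.OverMorphism.ext hm⟩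

/-- A morphism from a stage which is equivariant on the limit is equivariant at a later stage. -/
theorem sys_equivariant {A : Over S} [MonObj A] [IsAffineHom A.hom] [LocallyOfFiniteType f.left]
    (hc : IsLimit ((Over.forget S).mapCone c)) (haff : ∀ i, IsAffine (D.obj i).left)
    {ρ : MonAct A W} {aX : MonAct A X} {aY : MonAct A Y} (hf : MonAct.IsEquivariant aX aY f)
    (y : ∀ i, (MonAct.eqvHom ρ aY).obj (op (D.obj i)))
    (hy : ∀ {i k : Jᵒᵖ} (a : i ⟶ k), (W ◁ D.map a) ≫ (y k).1 = (y i).1)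
    {i : Jᵒᵖ} (xi : W ⊗ D.obj i ⟶ X) (hxi : xi ≫ f = (y i).1)
    (hx : MonAct.IsEquivariant (ρ.prod (MonAct.trivial A c.pt)) aX ((W ◁ c.π.app i) ≫ xi)) :
    ∃ (k : Jᵒᵖ) (m : k ⟶ i),
      MonAct.IsEquivariant (ρ.prod (MonAct.trivial A (D.obj k))) aX ((W ◁ D.map m) ≫ xi) := by
  haveI := isAffineHom_tensor A W
  let P : ∀ k, (A ⊗ W) ⊗ D.obj k ⟶ W ⊗ D.obj k := fun k =>
    (α_ A W (D.obj k)).hom ≫ (ρ.prod (MonAct.trivial A (D.obj k))).act
  let Q : ∀ k, (A ⊗ W) ⊗ D.obj k ⟶ A ⊗ (W ⊗ D.obj k) := fun k => (α_ A W (D.obj k)).hom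
  have hP : ∀ {Z : Over S} (k : Jᵒᵖ) (φ : Z ⟶ D.obj k),
      ((A ⊗ W) ◁ φ) ≫ P k = ((α_ A W Z).hom ≫ (ρ.prod (MonAct.trivial A Z)).act) ≫ (W ◁ φ) := fun {Z} k φ => by
    show _ ≫ (α_ _ _ _).hom ≫ _ = _
    rw [associator_naturality_right_assoc, ← MonAct.prod_trivial_act_whiskerLeft, Category.assoc]
  have hQ : ∀ {Z : Over S} (k : Jᵒᵖ) (φ : Z ⟶ D.obj k),
      ((A ⊗ W) ◁ φ) ≫ Q k = (α_ A W Z).hom ≫ (A ◁ (W ◁ φ)) := fun {Z} k φ => by
    show _ ≫ (α_ _ _ _).hom = _
    rw [associator_naturality_right]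
  let y' : ∀ k, (A ⊗ W) ⊗ D.obj k ⟶ Y := fun k => P k ≫ (y k).1
  have hy' : ∀ {k l : Jᵒᵖ} (a : k ⟶ l), ((A ⊗ W) ◁ D.map a) ≫ y' l = y' k := fun {k l} a => by
    show _ ≫ P l ≫ _ = _
    rw [← Category.assoc, hP, Category.assoc, hy a]
  obtain ⟨k, m, hm⟩ := sys_eq f hc haff (W := A ⊗ W) y' hy' (i := i)
    (P i ≫ xi) (Q i ≫ (A ◁ xi) ≫ aX.act) (by rw [Category.assoc, hxi]) (by
      simp only [Category.assoc]
      rw [hf, ← MonoidalCategory.whiskerLeft_comp_assoc, hxi, ← (y i).2]
      simp [y', P, Q]) (by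
      have e1 := congrArg ((α_ A W c.pt).hom ≫ ·) hx
      rw [MonoidalCategory.whiskerLeft_comp_assoc] at e1
      rw [← Category.assoc, hP, ← Category.assoc ((A ⊗ W) ◁ _), hQ]
      simp only [Category.assoc]
      exact e1)
  refine ⟨k, m, ?_⟩
  rw [← Category.assoc, hP, ← Category.assoc ((A ⊗ W) ◁ _), hQ] at hm
  simp only [Category.assoc] at hm
  rw [cancel_epi] at hm
  rw [MonAct.IsEquivariant, MonoidalCategory.whiskerLeft_comp, Category.assoc]
  exact hm

end Groth.Agent.H15Magnet.Grad
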