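import Groth.Agent.H15Magnet.Grad.LimitPres

/-!
# Representing morphisms of attractor maps are locally of finite presentation
-/

set_option autoImplicit false
set_option linter.unusedSectionVars false
set_option linter.style.haveILetI false
set_option backward.isDefEq.respectTransparency false
set_option backward.isDefEq.respectTransparency.types false
universe u

open CategoryTheory CategoryTheory.Limits MonoidalCategory CartesianMonoidalCategory AlgebraicGeometry Opposite Magnet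

noncomputable section

namespace Groth.Agent.H15Magnet.Grad

variable {S : Scheme.{u}}

/-- A morphism of `S`-schemes is locally of finite presentation if morphisms from limits of affine schemes
factor at a stage. -/
theorem lfp_of_stage {ZX ZY : Over S} (j : ZX ⟶ ZY)
    (h : ∀ (J : Type u) [Preorder J] [IsDirected J (· ≤ ·)] [Nonempty J] (D : Jᵒᵖ ⥤ Over S) (c : Cone D)
      (_ : IsLimit ((Over.forget S).mapCone c)), (∀ i, IsAffine (D.obj i).left) →
      ∀ (τ : ∀ i, D.obj i ⟶ ZY), (∀ {i k : Jᵒᵖ} (a : i ⟶ k), D.map a ≫ τ k = τ i) →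
      ∀ gz : c.pt ⟶ ZX, (∀ i, gz ≫ j = c.π.app i ≫ τ i) →
      ∃ (i : Jᵒᵖ) (z : D.obj i ⟶ ZX), z ≫ j = τ i ∧ c.π.app i ≫ z = gz) :
    LocallyOfFinitePresentation j.left := by
  refine H7Lim.locallyOfFinitePresentation_of_surjOn fun U _ J _ _ _ D t c hc haff j₀ g hg => ?_
  have ht : ∀ {i k : Jᵒᵖ} (a : i ⟶ k), D.map a ≫ t.app k = t.app i := fun a =>
    (t.naturality a).trans (Category.comp_id _)
  have hall : ∀ i, c.π.app i ≫ t.app i = c.π.app j₀ ≫ t.app j₀ := fun i => by
    rw [← c.w (IsCofiltered.minToLeft i j₀), ← c.w (IsCofiltered.minToRight i j₀), Category.assoc,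
      Category.assoc, ht, ht]
  let D' : Jᵒᵖ ⥤ Over S :=
    { obj := fun i => Over.mk (t.app i ≫ U.ι ≫ ZY.hom)
      map := fun {i k} a => Over.homMk (D.map a) (by
        show D.map a ≫ t.app k ≫ U.ι ≫ ZY.hom = t.app i ≫ U.ι ≫ ZY.hom
        rw [← ht a, Category.assoc])
      map_id := fun i => Over.OverMorphism.ext (D.map_id i)
      map_comp := fun a b => Over.OverMorphism.ext (D.map_comp a b) }
  let c' : Cone D' :=
    { pt := Over.mk (c.π.app j₀ ≫ t.app j₀ ≫ U.ι ≫ ZY.hom)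
      π :=
        { app := fun i => Over.homMk (c.π.app i) (by
            show c.π.app i ≫ t.app i ≫ U.ι ≫ ZY.hom = c.π.app j₀ ≫ t.app j₀ ≫ U.ι ≫ ZY.hom
            rw [← Category.assoc, hall, Category.assoc])
          naturality := fun i k a => Over.OverMorphism.ext (c.π.naturality a) } }
  have hc' : IsLimit ((Over.forget S).mapCone c') :=
    IsLimit.ofIsoLimit hc (Cone.ext (Iso.refl _) fun i => (Category.id_comp _).symm)
  let τ : ∀ i, D'.obj i ⟶ ZY := fun i => Over.homMk (t.app i ≫ U.ι) (Category.assoc _ _ _)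
  let gz : c'.pt ⟶ ZX := Over.homMk g (by
    show g ≫ ZX.hom = c.π.app j₀ ≫ t.app j₀ ≫ U.ι ≫ ZY.hom
    rw [← Over.w j, ← Category.assoc, hg]
    simp only [Category.assoc])
  obtain ⟨i, z, hz₁, hz₂⟩ := h J D' c' hc' haff τ
    (fun {i k} a => Over.OverMorphism.ext (by
      show D.map a ≫ t.app k ≫ U.ι = t.app i ≫ U.ι
      rw [← Category.assoc, ht a]))
    gz (fun i => Over.OverMorphism.ext (by
      show g ≫ j.left = c.π.app i ≫ t.app i ≫ U.ι
      rw [hg, ← Category.assoc, ← hall i, Category.assoc]))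
  exact ⟨i, z.left, congrArg CommaMorphism.left hz₁, congrArg CommaMorphism.left hz₂⟩

variable {A W X Y : Over S} [MonObj A] [IsAffineHom A.hom] [IsAffineHom W.hom] {ρ : MonAct A W}
  {aX : MonAct A X} {aY : MonAct A Y}

/-- Representing morphisms of equivariant-hom functors of LFP maps are LFP. -/
theorem lfp_of_representsPostcomp (f : X ⟶ Y) (hf : MonAct.IsEquivariant aX aY f)
    [LocallyOfFinitePresentation f.left] {ZX ZY : Over S} (eX : (MonAct.eqvHom ρ aX).RepresentableBy ZX)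
    (eY : (MonAct.eqvHom ρ aY).RepresentableBy ZY) (j : ZX ⟶ ZY)
    (hj : ∀ (T : Over S) (z : T ⟶ ZX),
      eY.homEquiv (z ≫ j) = (MonAct.eqvHom.postcomp ρ f hf).app (op T) (eX.homEquiv z)) :
    LocallyOfFinitePresentation j.left := by
  refine lfp_of_stage j fun J _ _ _ D c hc haff τ hτ gz hgz => ?_
  let y : ∀ i, (MonAct.eqvHom ρ aY).obj (op (D.obj i)) := fun i => eY.homEquiv (τ i)
  have hy : ∀ {i k : Jᵒᵖ} (a : i ⟶ k), (W ◁ D.map a) ≫ (y k).1 = (y i).1 := fun {i k} a => by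
    rw [show y i = _ from congrArg eY.homEquiv (hτ a).symm, eY.homEquiv_comp]
    rfl
  obtain ⟨i, xi, hxi, hx⟩ := sys_exists f hc haff (fun i => (y i).1) hy (eX.homEquiv gz).1 fun i => by
    show ((MonAct.eqvHom.postcomp ρ f hf).app _ (eX.homEquiv gz)).1 = _
    rw [← hj, hgz i, eY.homEquiv_comp]
    rfl
  obtain ⟨k, m, hk⟩ := sys_equivariant f hc haff hf y hy xi hxi (by rw [hx]; exact (eX.homEquiv gz).2)
  refine ⟨k, eX.homEquiv.symm ⟨(W ◁ D.map m) ≫ xi, hk⟩, ?_, ?_⟩
  · apply eY.homEquiv.injective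
    rw [hj, Equiv.apply_symm_apply]
    exact Subtype.ext ((Category.assoc _ _ _).trans ((congrArg (_ ≫ ·) hxi).trans (hy m)))
  · apply eX.homEquiv.injective
    rw [eX.homEquiv_comp, Equiv.apply_symm_apply]
    refine Subtype.ext ?_
    show (W ◁ c.π.app k) ≫ (W ◁ D.map m) ≫ xi = _
    rw [← MonoidalCategory.whiskerLeft_comp_assoc, c.w, hx]
    rfl

/-- Representing morphisms of restriction maps of equivariant-hom functors of LFP schemes are LFP. -/
theorem lfp_of_representsPrecomp {W' : Over S} [IsAffineHom W'.hom] {ρ' : MonAct A W'} (ψ : W' ⟶ W)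
    (hψ : MonAct.IsEquivariant ρ' ρ ψ) [LocallyOfFinitePresentation X.hom] {ZX ZY : Over S}
    (eX : (MonAct.eqvHom ρ aX).RepresentableBy ZX) (eY : (MonAct.eqvHom ρ' aX).RepresentableBy ZY)
    (j : ZX ⟶ ZY)
    (hj : ∀ (T : Over S) (z : T ⟶ ZX),
      eY.homEquiv (z ≫ j) = (MonAct.eqvHom.precomp aX ψ hψ).app (op T) (eX.homEquiv z)) :
    LocallyOfFinitePresentation j.left := by
  refine lfp_of_stage j fun J _ _ _ D c hc haff τ hτ gz hgz => ?_
  let a1 : MonAct A (𝟙_ (Over S)) := MonAct.trivial A (𝟙_ (Over S))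
  have hf : MonAct.IsEquivariant aX a1 (toUnit X) := toUnit_unique _ _
  haveI : LocallyOfFinitePresentation (toUnit X).left := by
    rw [show (toUnit X).left = X.hom from by simpa using Over.w (toUnit X)]
    infer_instance
  let y : ∀ i, (MonAct.eqvHom ρ a1).obj (op (D.obj i)) := fun i => ⟨toUnit _, toUnit_unique _ _⟩
  obtain ⟨i, xi, hxi, hx⟩ := sys_exists (toUnit X) hc haff (fun i => (y i).1) (fun _ => toUnit_unique _ _)
    (eX.homEquiv gz).1 fun i => toUnit_unique _ _
  obtain ⟨k, m, hk⟩ := sys_equivariant (toUnit X) hc haff hf y (fun _ => toUnit_unique _ _) xi hxi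
    (by rw [hx]; exact (eX.homEquiv gz).2)
  have hxk : (W ◁ c.π.app k) ≫ (W ◁ D.map m) ≫ xi = (eX.homEquiv gz).1 := by
    rw [← MonoidalCategory.whiskerLeft_comp_assoc, c.w, hx]
  obtain ⟨l, n, hl⟩ := sys_eq (toUnit X) hc haff (W := W') (fun _ => toUnit _) (fun _ => toUnit_unique _ _)
    ((ψ ▷ D.obj k) ≫ (W ◁ D.map m) ≫ xi) (eY.homEquiv (τ k)).1 (toUnit_unique _ _) (toUnit_unique _ _) (by
      rw [whisker_exchange_assoc, hxk]
      show ((MonAct.eqvHom.precomp aX ψ hψ).app _ (eX.homEquiv gz)).1 = _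
      rw [← hj, hgz k, eY.homEquiv_comp]
      rfl)
  refine ⟨l, D.map n ≫ eX.homEquiv.symm ⟨(W ◁ D.map m) ≫ xi, hk⟩, ?_, ?_⟩
  · apply eY.homEquiv.injective
    rw [hj, eX.homEquiv_comp, Equiv.apply_symm_apply, ← hτ n, eY.homEquiv_comp]
    refine Subtype.ext ?_
    show (ψ ▷ D.obj l) ≫ (W ◁ D.map n) ≫ (W ◁ D.map m) ≫ xi = (W' ◁ D.map n) ≫ (eY.homEquiv (τ k)).1
    rw [← hl, whisker_exchange_assoc]
  · apply eX.homEquiv.injective
    rw [← Category.assoc, c.w, eX.homEquiv_comp, Equiv.apply_symm_apply]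
    exact Subtype.ext hxk

end Groth.Agent.H15Magnet.Grad
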