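import Groth.Agent.H15Magnet.Grad.Coact
import Groth.Agent.H15Magnet.Grad.Stable
import Groth.Agent.H15Magnet.ComapGroup

/-!
# Attractors in stable open subschemes
-/

set_option autoImplicit false
set_option linter.unusedSectionVars false
set_option linter.style.haveILetI false
set_option backward.isDefEq.respectTransparency false
set_option backward.isDefEq.respectTransparency.types false
universe u

open CategoryTheory CategoryTheory.Limits MonoidalCategory CartesianMonoidalCategory MonObj AlgebraicGeometry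
  Opposite Magnet

noncomputable section

namespace Groth.Agent.H15Magnet.Grad

variable {S : Scheme.{u}}

/-- Representing objects of a functor and of an open subfunctor. -/
theorem exists_iso_open {F G : (Over S)ᵒᵖ ⥤ Type u} (nt : G ⟶ F) {TG ZF : Over S}
    (hη : ∀ T, Function.Injective (nt.app (op T))) (rG : G.RepresentableBy TG) (rF : F.RepresentableBy ZF)
    (O : ZF.left.Opens)
    (h : ∀ (T : Over S) (p : T ⟶ ZF), (∀ t, p.left t ∈ O) ↔ ∃ ψ, nt.app (op T) ψ = rF.homEquiv p) :
    ∃ i : TG.left ≅ (O : Scheme.{u}), i.hom ≫ O.ι = (rF.homEquiv.symm (nt.app (op TG) (rG.homEquiv (𝟙 TG)))).left := by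
  let w : TG ⟶ ZF := rF.homEquiv.symm (nt.app (op TG) (rG.homEquiv (𝟙 TG)))
  have hw : rF.homEquiv w = nt.app (op TG) (rG.homEquiv (𝟙 TG)) := Equiv.apply_symm_apply _ _
  have hwO : ∀ t, w.left t ∈ O := (h TG w).2 ⟨_, hw.symm⟩
  let Oo : Over S := Over.mk (O.ι ≫ ZF.hom)
  let p : Oo ⟶ ZF := Over.homMk O.ι rfl
  obtain ⟨ψ, hψ⟩ := (h Oo p).1 fun t => t.2
  let v : Oo ⟶ TG := rG.homEquiv.symm ψ
  have hnat : ∀ {T : Over S} (g : T ⟶ TG), rF.homEquiv (g ≫ w) = nt.app (op T) (rG.homEquiv g) := by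
    intro T g
    rw [rF.homEquiv_comp, hw]
    refine ((ConcreteCategory.congr_hom (nt.naturality g.op) (rG.homEquiv (𝟙 TG))).symm).trans ?_
    refine congrArg (nt.app (op T)) ?_
    refine (rG.homEquiv_comp g (𝟙 TG)).symm.trans ?_
    rw [Category.comp_id]
  have hvw : v ≫ w = p := rF.homEquiv.injective (by rw [hnat, Equiv.apply_symm_apply, hψ])
  let wl : TG.left ⟶ (O : Scheme.{u}) := IsOpenImmersion.lift O.ι w.left (by
    rintro _ ⟨t, rfl⟩
    rw [Scheme.Opens.range_ι]
    exact hwO t)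
  have hwl : wl ≫ O.ι = w.left := IsOpenImmersion.lift_fac _ _ _
  let w' : TG ⟶ Oo := Over.homMk wl (by
    show wl ≫ O.ι ≫ ZF.hom = _
    rw [reassoc_of% hwl, Over.w])
  have hw' : w' ≫ p = w := Over.OverMorphism.ext hwl
  haveI : Mono p := (Over.forget S).mono_of_mono_map (show Mono O.ι from inferInstance)
  have h1 : v ≫ w' = 𝟙 _ := by
    rw [← cancel_mono p, Category.assoc, hw', hvw, Category.id_comp]
  have h2 : w' ≫ v = 𝟙 _ := rG.homEquiv.injective (hη TG (by
    rw [← hnat, ← hnat, Category.assoc, hvw, hw', Category.id_comp]))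
  exact ⟨⟨wl, v.left, congrArg CommaMorphism.left h2, congrArg CommaMorphism.left h1⟩, hwl⟩

variable {M : Type} [AddCommGroup M] {X : Over S} (a : MonAct (AMonS S M) X)

/-- An orbit of a point of a stable open stays in it. -/
theorem orbit_mem {V : X.left.Opens} (hV : Stable a V) (Z : AddSubgroup M) {T : Over S}
    (φ : (attr a Z.toAddSubmonoid).obj (op T))
    (h : ∀ t, ((attrToX a Z.toAddSubmonoid).app (op T) φ).left t ∈ V) : ∀ z, φ.1.left z ∈ V := by
  intro z
  obtain ⟨w, hw⟩ := (surjective_map_whisker Z.toAddSubmonoid.subtype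
    (isFreeOrbit_subtype Z) T).surj z
  have e := congrArg CommaMorphism.left (factor_of_eq a Z.toAddSubmonoid T φ _ rfl)
  simp only [Over.comp_left] at e
  rw [← hw, ← Scheme.Hom.comp_apply, e, Scheme.Hom.comp_apply]
  refine hV (show (snd (AMonS S M) X).left ((AMonS S M ◁ (attrToX a Z.toAddSubmonoid).app (op T) φ).left w) ∈ V from ?_)
  rw [← Scheme.Hom.comp_apply, ← Over.comp_left, whiskerLeft_snd, Over.comp_left, Scheme.Hom.comp_apply]
  exact h _

variable {a} {V : X.left.Opens}

/-- The open subscheme, over `S`. -/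
abbrev OpenObj (V : X.left.Opens) : Over S := Over.mk (V.ι ≫ X.hom)

/-- Its inclusion. -/
abbrev incl (V : X.left.Opens) : OpenObj V ⟶ X := Over.homMk V.ι rfl

theorem exists_restrictAct (hV : Stable a V) :
    ∃ aV : MonAct (AMonS S M) (OpenObj V), MonAct.IsEquivariant aV a (incl V) := by
  haveI : Mono (incl V) := (Over.forget S).mono_of_mono_map (show Mono V.ι from inferInstance)
  have hr : Set.range ((AMonS S M ◁ incl V) ≫ a.act).left ⊆ Set.range V.ι := by
    rintro _ ⟨z, rfl⟩
    rw [Scheme.Opens.range_ι, Over.comp_left, Scheme.Hom.comp_apply]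
    refine hV (show (snd (AMonS S M) X).left ((AMonS S M ◁ incl V).left z) ∈ V from ?_)
    rw [← Scheme.Hom.comp_apply, ← Over.comp_left, whiskerLeft_snd, Over.comp_left, Scheme.Hom.comp_apply]
    exact ((snd (AMonS S M) (OpenObj V)).left z).2
  let actV : AMonS S M ⊗ OpenObj V ⟶ OpenObj V := Over.homMk (IsOpenImmersion.lift V.ι _ hr) (by
    show _ ≫ V.ι ≫ X.hom = _
    rw [IsOpenImmersion.lift_fac_assoc, Over.w])
  have hactV : actV ≫ incl V = (AMonS S M ◁ incl V) ≫ a.act :=
    Over.OverMorphism.ext (IsOpenImmersion.lift_fac _ _ hr)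
  have hpt : ∀ (T : Over S) (g : T ⟶ AMonS S M) (z : T ⟶ OpenObj V),
      (lift g z ≫ actV) ≫ incl V = lift g (z ≫ incl V) ≫ a.act := fun T g z => by
    rw [Category.assoc, hactV, lift_whiskerLeft_assoc]
  exact ⟨MonAct.mk' actV
    (fun T z => by rw [← cancel_mono (incl V), hpt, a.lift_one_act])
    (fun T g h z => by rw [← cancel_mono (incl V), hpt, hpt, hpt, a.lift_mul_act]), hactV⟩

variable {aV : MonAct (AMonS S M) (OpenObj V)} (hf : MonAct.IsEquivariant aV a (incl V)) (N : AddSubmonoid M)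

/-- Attractor points of the open subscheme, in `X`. -/
def post : attr aV N ⟶ attr a N := MonAct.eqvHom.postcomp (subAct S M N) (incl V) hf

theorem post_coe (T : Over S) (ψ : (attr aV N).obj (op T)) : ((post hf N).app (op T) ψ).1 = ψ.1 ≫ incl V := rfl

theorem post_injective (T : Over S) : Function.Injective ((post hf N).app (op T)) := by
  haveI : Mono (incl V) := (Over.forget S).mono_of_mono_map (show Mono V.ι from inferInstance)
  exact fun ψ ψ' h => Subtype.ext ((cancel_mono (incl V)).1 (congrArg Subtype.val h))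

theorem toX_post (T : Over S) (ψ : (attr aV N).obj (op T)) :
    (attrToX a N).app (op T) ((post hf N).app (op T) ψ) = (attrToX aV N).app (op T) ψ ≫ incl V := by
  show lift (toUnit T ≫ η[AMonS S N]) (𝟙 T) ≫ (ψ.1 ≫ incl V) = (lift (toUnit T ≫ η[AMonS S N]) (𝟙 T) ≫ ψ.1) ≫ incl V
  exact (Category.assoc _ _ _).symm

theorem post_attrFace {F : AddSubmonoid M} (hF : IsFace N F) (T : Over S) (ψ : (attr aV N).obj (op T)) :
    (attrFace a hF).app (op T) ((post hf N).app (op T) ψ) = (post hf F).app (op T) ((attrFace aV hF).app (op T) ψ) :=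
  Subtype.ext (Category.assoc _ _ _).symm

theorem exists_post_iff (T : Over S) (φ : (attr a N).obj (op T)) :
    (∃ ψ, (post hf N).app (op T) ψ = φ) ↔ ∀ z, φ.1.left z ∈ V := by
  constructor
  · rintro ⟨ψ, rfl⟩ z
    rw [post_coe, Over.comp_left, Scheme.Hom.comp_apply]
    exact (ψ.1.left z).2
  · intro h
    haveI : Mono (incl V) := (Over.forget S).mono_of_mono_map (show Mono V.ι from inferInstance)
    have hr : Set.range φ.1.left ⊆ Set.range V.ι := by
      rintro _ ⟨z, rfl⟩
      rw [Scheme.Opens.range_ι]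
      exact h z
    let ψ : AMonS S N ⊗ T ⟶ OpenObj V := Over.homMk (IsOpenImmersion.lift V.ι _ hr) (by
      show _ ≫ V.ι ≫ X.hom = _
      rw [IsOpenImmersion.lift_fac_assoc]
      exact Over.w φ.1)
    have hψ : ψ ≫ incl V = φ.1 := Over.OverMorphism.ext (IsOpenImmersion.lift_fac _ _ hr)
    refine ⟨⟨ψ, ?_⟩, Subtype.ext hψ⟩
    rw [MonAct.mem_eqvHom_iff]
    intro T' g b t
    rw [← cancel_mono (incl V), Category.assoc, hψ, Category.assoc]
    have h2 := (MonAct.mem_eqvHom_iff φ.1).1 φ.2 T' g b t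
    rw [h2, (MonAct.isEquivariant_iff aV a (incl V)).1 hf, Category.assoc, hψ]

end Groth.Agent.H15Magnet.Grad
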