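import Groth.Agent.H15Magnet.Grad.Basic
import Mathlib.RingTheory.Smooth.Basic

/-!
# Formal smoothness of the face projection of a graded formally smooth algebra
-/

set_option autoImplicit false
set_option linter.unusedSectionVars false
set_option linter.style.haveILetI false
universe u

open AddMonoidAlgebra

namespace Groth.Agent.H15Magnet.Grad

variable {M : Type} [AddCommGroup M] {k A : Type u} [CommRing k] [CommRing A] [Algebra k A]
  {δ : A →+* AddMonoidAlgebra A M}

section Supp

variable (C : Type u) [CommRing C] (N : AddSubmonoid M)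

theorem coeff_mul_mem {C : Type u} [CommRing C] {G : Type*} [SetLike G C] [AddSubmonoidClass G C]
    (I : G) (v w : AddMonoidAlgebra C M) (m : M)
    (h : ∀ i j, i + j = m → v.coeff i * w.coeff j ∈ I) : (v * w).coeff m ∈ I := by
  classical
  rw [coeff_mul, Finsupp.sum]
  refine sum_mem fun i _ => ?_
  rw [Finsupp.sum]
  refine sum_mem fun j _ => ?_
  split_ifs with e
  · exact h i j e
  · exact zero_mem I

theorem coeff_mul_eq_zero {C : Type u} [CommRing C] (v w : AddMonoidAlgebra C M) (m : M)
    (h : ∀ i j, i + j = m → v.coeff i * w.coeff j = 0) : (v * w).coeff m = 0 :=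
  AddSubmonoid.mem_bot.1 (coeff_mul_mem (⊥ : AddSubmonoid C) v w m fun i j e => AddSubmonoid.mem_bot.2 (h i j e))

/-- Elements supported in `N`. -/
def suppRing : Subring (AddMonoidAlgebra C M) where
  carrier := {v | ∀ m, m ∉ N → v.coeff m = 0}
  one_mem' m hm := by
    classical
    rw [one_def, coeff_single, Finsupp.single_apply, if_neg]
    intro h
    exact hm (h ▸ N.zero_mem)
  zero_mem' m _ := rfl
  add_mem' {v w} hv hw m hm := by rw [coeff_add, Finsupp.add_apply, hv m hm, hw m hm, add_zero]
  neg_mem' {v} hv m hm := by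
    rw [AddMonoidAlgebra.coeff_neg, Finsupp.neg_apply, hv m hm, neg_zero]
  mul_mem' {v w} hv hw m hm := coeff_mul_eq_zero v w m fun i j e => by
    by_cases hi : i ∈ N
    · by_cases hj : j ∈ N
      · exact absurd (e ▸ N.add_mem hi hj) hm
      · rw [hw j hj, mul_zero]
    · rw [hv i hi, zero_mul]

theorem single_mem_suppRing {m : M} {x : C} (h : m ∈ N ∨ x = 0) : single m x ∈ suppRing C N := by
  classical
  intro l hl
  rw [coeff_single, Finsupp.single_apply]
  split_ifs with e
  · rcases h with h | h
    · exact absurd (e ▸ h) hl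
    · exact h
  · rfl

end Supp

theorem coeff_single_self {C : Type u} [CommRing C] (m : M) (x : C) : (single m x).coeff m = x := by
  simp

/-- The face projection of a graded formally smooth algebra is formally smooth. -/
theorem formallySmooth_sec [Algebra.FormallySmooth k A] (h : IsGrading δ)
    (hk : ∀ c, Homog δ 0 (algebraMap k A c)) (N Z : AddSubmonoid M) (hZN : Z ≤ N)
    (hface : ∀ x ∈ N, ∀ y ∈ N, x + y ∈ Z → x ∈ Z ∧ y ∈ Z)
    (ι : A ⧸ outside δ Z →+* A ⧸ outside δ N)
    (hι : ∀ a, ι (Ideal.Quotient.mk _ a) = secAdd δ N Z a) :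
    @Algebra.FormallySmooth (A ⧸ outside δ Z) (A ⧸ outside δ N) _ _ ι.toAlgebra := by
  classical
  letI := ι.toAlgebra
  refine Algebra.FormallySmooth.of_comp_surjective fun C _ _ I hI f => ?_
  let g : A →+* C := (algebraMap (A ⧸ outside δ Z) C).comp (Ideal.Quotient.mk _)
  letI : Algebra k C := (g.comp (algebraMap k A)).toAlgebra
  have hI2 : ∀ x ∈ I, ∀ y ∈ I, x * y = 0 := fun x hx y hy => by
    have := Ideal.mul_mem_mul hx hy
    rwa [← pow_two, hI, Ideal.mem_bot] at this
  let f' : A →+* C ⧸ I := f.toRingHom.comp (Ideal.Quotient.mk _)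
  have hf0 : ∀ {m a}, m ∉ N → Homog δ m a → f' a = 0 := fun {m a} hm ha => by
    show f (Ideal.Quotient.mk _ a) = 0
    rw [Ideal.Quotient.eq_zero_iff_mem.2 (mem_outside hm ha), map_zero]
  have hg0 : ∀ {m a}, m ∉ Z → Homog δ m a → g a = 0 := fun {m a} hm ha => by
    show algebraMap _ C (Ideal.Quotient.mk _ a) = 0
    rw [Ideal.Quotient.eq_zero_iff_mem.2 (mem_outside hm ha), map_zero]
  have hfg : ∀ {m a}, m ∈ Z → Homog δ m a → f' a = Ideal.Quotient.mk I (g a) := fun {m a} hm ha => by
    show f (Ideal.Quotient.mk _ a) = _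
    have : (Ideal.Quotient.mk (outside δ N) a) = ι (Ideal.Quotient.mk _ a) := by
      rw [hι, secAdd_homog N Z ha, if_pos hm]
    rw [this]
    exact f.commutes _
  -- the prescribed coefficient
  let w : A → M → C := fun a m =>
    if m ∈ Z then g a else if m ∈ N then Function.surjInv Ideal.Quotient.mk_surjective (f' a) else 0
  have hwN : ∀ a m, m ∉ N → w a m = 0 := fun a m hm => by
    simp only [w, if_neg (fun h => hm (hZN h)), if_neg hm]
  have hwf : ∀ {m a}, Homog δ m a → Ideal.Quotient.mk I (w a m) = f' a := fun {m a} ha => by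
    simp only [w]
    split_ifs with h1 h2
    · exact (hfg h1 ha).symm
    · exact Function.surjInv_eq _ _
    · rw [map_zero, hf0 h2 ha]
  -- the ideal of the lifting problem
  let Q := suppRing C N
  let K : Ideal Q :=
    { carrier := {v | (∀ m, v.1.coeff m ∈ I) ∧ ∀ m ∈ Z, v.1.coeff m = 0}
      zero_mem' := ⟨fun m => I.zero_mem, fun m _ => rfl⟩
      add_mem' := fun {v v'} hv hv' => ⟨fun m => by
          rw [Subring.coe_add, coeff_add, Finsupp.add_apply]
          exact add_mem (hv.1 m) (hv'.1 m),
        fun m hm => by rw [Subring.coe_add, coeff_add, Finsupp.add_apply, hv.2 m hm, hv'.2 m hm, add_zero]⟩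
      smul_mem' := fun c v hv => by
        refine ⟨fun m => ?_, fun m hm => ?_⟩
        · rw [smul_eq_mul, Subring.coe_mul]
          exact coeff_mul_mem I _ _ m fun i j _ => I.mul_mem_left _ (hv.1 j)
        · rw [smul_eq_mul, Subring.coe_mul]
          refine coeff_mul_eq_zero _ _ m fun i j e => ?_
          by_cases hi : i ∈ N
          · by_cases hj : j ∈ N
            · rw [hv.2 j (hface i hi j hj (e ▸ hm)).2, mul_zero]
            · rw [v.2 j hj, mul_zero]
          · rw [c.2 i hi, zero_mul] }
  have hK : IsNilpotent K := ⟨2, by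
    rw [pow_two]
    refine le_bot_iff.1 (Ideal.mul_le.2 fun v hv v' hv' => Ideal.mem_bot.2 (Subtype.ext ?_))
    rw [Subring.coe_mul, Subring.coe_zero]
    ext m
    exact coeff_mul_eq_zero _ _ m fun i j _ => hI2 _ (hv.1 i) _ (hv'.1 j)⟩
  let W : M → A → Q := fun m a => ⟨single m (w a m), single_mem_suppRing C N (by
    by_cases hm : m ∈ N
    · exact Or.inl hm
    · exact Or.inr (hwN a m hm))⟩
  have hWadd : ∀ m a a', Homog δ m a → Homog δ m a' → W m (a + a') - (W m a + W m a') ∈ K := by
    intro m a a' ha ha'
    have haa : Homog δ m (a + a') := by rw [Homog, map_add, ha, ha', single_add]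
    have e : ((W m (a + a') - (W m a + W m a') : Q) : AddMonoidAlgebra C M) =
        single m (w (a + a') m - (w a m + w a' m)) := by simp [W, single_sub, single_add]
    refine ⟨fun l => ?_, fun l hl => ?_⟩
    · rw [e, coeff_single, Finsupp.single_apply]
      split_ifs
      · rw [← Ideal.Quotient.eq_zero_iff_mem, map_sub, map_add, hwf haa, hwf ha, hwf ha', map_add, sub_self]
      · exact I.zero_mem
    · rw [e, coeff_single, Finsupp.single_apply]
      split_ifs with el
      · subst el
        simp [w, if_pos hl]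
      · rfl
  let F₀ : M → A →+ Q ⧸ K := fun m => AddMonoidHom.mk'
    (fun a => Ideal.Quotient.mk K (W m ((δ a).coeff m))) fun a a' => by
      rw [map_add, coeff_add, Finsupp.add_apply, ← map_add, Ideal.Quotient.eq]
      exact hWadd m _ _ (homog_coeff h a m) (homog_coeff h a' m)
  have hF₀ : ∀ {m a}, Homog δ m a → dsum δ F₀ a = Ideal.Quotient.mk K (W m a) := fun {m a} ha => by
    rw [dsum_homog _ ha]
    show Ideal.Quotient.mk K (W m ((δ a).coeff m)) = _
    rw [coeff_homog ha, if_pos rfl]
  let F : A →+* Q ⧸ K := h.homOfHomog (dsum δ F₀)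
    (by
      rw [hF₀ homog_one, ← map_one (Ideal.Quotient.mk K)]
      congr 1
      apply Subtype.ext
      show single 0 (w 1 0) = 1
      simp only [w, if_pos Z.zero_mem, map_one, one_def])
    (fun i n a b ha hb => by
      rw [hF₀ (ha.mul hb), hF₀ ha, hF₀ hb, ← map_mul, Ideal.Quotient.eq]
      have e : ((W (i + n) (a * b) - W i a * W n b : Q) : AddMonoidAlgebra C M) =
          single (i + n) (w (a * b) (i + n) - w a i * w b n) := by
        simp [W, single_mul_single, single_sub]
      refine ⟨fun l => ?_, fun l hl => ?_⟩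
      · rw [e, coeff_single, Finsupp.single_apply]
        split_ifs
        · rw [← Ideal.Quotient.eq_zero_iff_mem, map_sub, map_mul, hwf (ha.mul hb), hwf ha, hwf hb, map_mul,
            sub_self]
        · exact I.zero_mem
      · rw [e, coeff_single, Finsupp.single_apply]
        split_ifs with el
        · subst el
          have e1 : w (a * b) (i + n) = g a * g b := by simp only [w, if_pos hl, map_mul]
          rw [e1, sub_eq_zero]
          by_cases hi : i ∈ N
          · by_cases hn : n ∈ N
            · obtain ⟨h1, h2⟩ := hface i hi n hn hl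
              simp only [w, if_pos h1, if_pos h2]
            · rw [hwN b n hn, hg0 (fun h => hn (hZN h)) hb, mul_zero, mul_zero]
          · rw [hwN a i hi, hg0 (fun h => hi (hZN h)) ha, zero_mul, zero_mul]
        · rfl)
  let cQ : k →+* Q := (((singleZeroRingHom : C →+* AddMonoidAlgebra C M).comp (algebraMap k C))).codRestrict Q
    fun c => single_mem_suppRing C N (Or.inl N.zero_mem)
  letI : Algebra k Q := cQ.toAlgebra
  have hFk : ∀ c, F (algebraMap k A c) = algebraMap k (Q ⧸ K) c := fun c => by
    show dsum δ F₀ (algebraMap k A c) = Ideal.Quotient.mk K (cQ c)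
    rw [hF₀ (hk c)]
    congr 1
    apply Subtype.ext
    show single 0 (w (algebraMap k A c) 0) = single 0 (algebraMap k C c)
    simp only [w, if_pos Z.zero_mem]
    rfl
  obtain ⟨l, hl⟩ := Algebra.FormallySmooth.exists_lift (R := k) K hK
    { F with commutes' := hFk }
  have hlK : ∀ {m a}, Homog δ m a → l a - W m a ∈ K := fun {m a} ha => by
    rw [← Ideal.Quotient.eq]
    exact (DFunLike.congr_fun hl a).trans (hF₀ ha)
  -- the graded part of the lift
  let L₀ : M → A →+ C := fun m =>
    AddMonoidHom.mk' (fun a => (l a).1.coeff m) fun a a' => by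
      rw [map_add, Subring.coe_add, coeff_add, Finsupp.add_apply]
  have hL₀ : ∀ {m a}, Homog δ m a → dsum δ L₀ a = (l a).1.coeff m := fun {m a} ha => dsum_homog _ ha
  have hdec : ∀ {m a}, Homog δ m a → ∃ u : Q, u ∈ K ∧ (l a).1 = single m (w a m) + u.1 := fun {m a} ha =>
    ⟨_, hlK ha, by simp [W]⟩
  let L : A →+* C := h.homOfHomog (dsum δ L₀) (by rw [hL₀ homog_one, map_one]; exact coeff_single_self _ _)
    (fun i n a b ha hb => by
      rw [hL₀ (ha.mul hb), hL₀ ha, hL₀ hb, map_mul, Subring.coe_mul]
      obtain ⟨u, hu, hua⟩ := hdec ha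
      obtain ⟨v, hv, hvb⟩ := hdec hb
      have huv : u.1 * v.1 = 0 := by
        ext m
        exact coeff_mul_eq_zero _ _ m fun i' j' _ => hI2 _ (hu.1 i') _ (hv.1 j')
      rw [hua, hvb, add_mul, mul_add, mul_add, huv, add_zero, single_mul_single, mul_comm u.1,
        coeff_add, coeff_add, Finsupp.add_apply, Finsupp.add_apply, coeff_single_self, coeff_single_mul_apply,
        coeff_single_mul_apply, coeff_add, coeff_add, Finsupp.add_apply, Finsupp.add_apply, coeff_single_self,
        coeff_single_self, neg_add_cancel_left,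
        show -n + (i + n) = i by rw [add_comm i n, neg_add_cancel_left]]
      have := hI2 _ (hu.1 i) _ (hv.1 n)
      linear_combination (-1 : C) * this)
  have hLdeg : ∀ {m a}, Homog δ m a → (m ∉ N → L a = 0) ∧ (m ∈ Z → L a = g a) ∧ Ideal.Quotient.mk I (L a) = f' a := by
    intro m a ha
    obtain ⟨u, hu, hua⟩ := hdec ha
    have hLa : L a = w a m + u.1.coeff m := by
      show dsum δ L₀ a = _
      rw [hL₀ ha, hua, coeff_add, Finsupp.add_apply, coeff_single_self]
    refine ⟨fun hm => ?_, fun hm => ?_, ?_⟩
    · rw [hLa, hwN a m hm, u.2 m hm, add_zero]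
    · rw [hLa, hu.2 m hm, add_zero]
      simp only [w, if_pos hm]
    · rw [hLa, map_add, hwf ha, Ideal.Quotient.eq_zero_iff_mem.2 (hu.1 m), add_zero]
  have hker : outside δ N ≤ RingHom.ker L := outside_le_iff.2 fun m a hm ha => (hLdeg ha).1 hm
  let L' : A ⧸ outside δ N →+* C := Ideal.Quotient.lift _ L hker
  have hL' : ∀ c, L' (ι c) = algebraMap (A ⧸ outside δ Z) C c := fun c => by
    obtain ⟨a, rfl⟩ := Ideal.Quotient.mk_surjective c
    induction a using h.induction with
    | zero => simp
    | add x y hx hy => simp only [map_add, hx, hy]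
    | homog m x hx =>
      rw [hι, secAdd_homog N Z hx]
      split_ifs with hm
      · exact (hLdeg hx).2.1 hm
      · rw [map_zero]
        exact (hg0 hm hx).symm
  refine ⟨{ L' with commutes' := hL' }, AlgHom.ext fun b => ?_⟩
  obtain ⟨a, rfl⟩ := Ideal.Quotient.mk_surjective b
  show Ideal.Quotient.mk I (L a) = f' a
  induction a using h.induction with
  | zero => simp
  | add x y hx hy => simp only [map_add, hx, hy]
  | homog m x hx => exact (hLdeg hx).2.2

end Groth.Agent.H15Magnet.Grad
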